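import Groth.Agent.Lib.GrpQ.Laws
import Groth.Agent.Lib.RedPts.BC
import Groth.Agent.Lib.SmWeil.CartanDescent
import Groth.Prelude.Def_AGF
import Groth.Prelude.Def_Red2
import Mathlib.Topology.KrullDimension

/-!
# Subgroups of a fibre: transport along base change
-/

set_option autoImplicit false
set_option linter.style.haveILetI false

universe u

open CategoryTheory CategoryTheory.Limits MonoidalCategory CartesianMonoidalCategory MonObj GrpObj AlgebraicGeometry
open Groth.Agent.Lib.RedPts Groth.Agent.Lib.SmWeil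

namespace Groth.Agent.Lib.SpecSub

variable {S S' S'' : Scheme.{u}}

/-- The points of `H'` embed functorially into point groups of `H`. -/
def SubPts (H' : Over S') [GrpObj H'] (H : Over S) [GrpObj H] : Prop :=
  ∀ X : Over S', ∃ (Y : Over S) (φ : (X ⟶ H') →* (Y ⟶ H)), Function.Injective φ

theorem subPts_bc (t : S' ⟶ S) (H : Over S) [GrpObj H] : SubPts (Red.bc t H) H := fun X =>
  ⟨(Over.map t).obj X, (BC.downMulEquiv t X H).toMonoidHom, (BC.downMulEquiv t X H).injective⟩

theorem subPts_of_mono {H' H : Over S} [GrpObj H'] [GrpObj H] (e : H' ⟶ H) [IsMonHom e] [Mono e] :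
    SubPts H' H := fun X =>
  ⟨X, { toFun := fun x => x ≫ e
        map_one' := MonObj.one_comp e
        map_mul' := fun x y => MonObj.mul_comp x y e }, fun x y h => (cancel_mono e).1 h⟩

/-- An intrinsic property of group schemes inherited along `SubPts`. -/
def Inherited (R : ∀ {S : Scheme.{u}} (H : Over S) [GrpObj H], Prop) : Prop :=
  ∀ {S S' : Scheme.{u}} (H' : Over S') [GrpObj H'] (H : Over S) [GrpObj H], SubPts H' H → R H → R H'

theorem inherited_true : Inherited.{u} (fun {_} _ [_] => True) := fun _ _ _ _ _ _ => trivial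

theorem isCommMonObj_of_points (H : Over S) [GrpObj H]
    (h : ∀ (X : Over S) (x y : X ⟶ H), x * y = y * x) : IsCommMonObj H := by
  refine ⟨?_⟩
  rw [MonObj.mul_eq_mul, MonObj.comp_mul, CartesianMonoidalCategory.braiding_hom_fst,
    CartesianMonoidalCategory.braiding_hom_snd]
  exact h _ _ _

theorem inherited_comm : Inherited.{u} (fun {_} H [_] => IsCommMonObj H) := by
  intro S S' H' _ H _ hs hc
  haveI := hc
  refine isCommMonObj_of_points H' fun X x y => ?_
  obtain ⟨Y, φ, hφ⟩ := hs X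
  exact hφ (by rw [map_mul, map_mul, _root_.mul_comm])

theorem inherited_solvable : Inherited.{u} (fun {_} H [_] => Red.IsSolvableGrp H) := by
  intro S S' H' _ H _ hs ⟨n, hn⟩
  refine ⟨n, fun X => (GrpQ.derivedSeries_eq_bot_iff n).2 fun v => ?_⟩
  obtain ⟨Y, φ, hφ⟩ := hs X
  refine hφ ?_
  rw [GrpQ.map_derW φ n v, map_one]
  exact (GrpQ.derivedSeries_eq_bot_iff n).1 (hn Y) _

theorem inherited_nilpotent : Inherited.{u} (fun {_} H [_] => AGF.IsNilpotentGrp H) := by
  intro S S' H' _ H _ hs ⟨n, hn⟩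
  refine ⟨n, fun X => (GrpQ.upperCentralSeries_eq_top_iff n).2 fun x y => ?_⟩
  obtain ⟨Y, φ, hφ⟩ := hs X
  refine hφ ?_
  rw [GrpQ.map_comW φ n x y, map_one]
  exact (GrpQ.upperCentralSeries_eq_top_iff n).1 (hn Y) _ _

theorem isNormalHom_bc (t : S' ⟶ S) {N G : Over S} [GrpObj N] [GrpObj G] (i : N ⟶ G)
    (hi : AlgGrp.IsNormalHom i) : AlgGrp.IsNormalHom ((Over.pullback t).map i : Red.bc t N ⟶ Red.bc t G) := by
  intro T g n
  obtain ⟨y, hy⟩ := hi _ (BC.down t g) (BC.down t n)
  exact ⟨BC.up t y, BC.down_injective (by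
    rw [BC.down_mul, BC.down_mul, BC.down_inv, BC.down_map, BC.down_map, BC.down_up, hy])⟩

theorem isNormalHom_comp_iso {N G G' : Over S} [GrpObj N] [GrpObj G] [GrpObj G'] (i : N ⟶ G)
    (hi : AlgGrp.IsNormalHom i) (e : G ≅ G') [IsMonHom e.hom] : AlgGrp.IsNormalHom (i ≫ e.hom) := by
  intro T g n
  obtain ⟨y, hy⟩ := hi T (g ≫ e.inv) n
  refine ⟨y, ?_⟩
  rw [← Category.assoc y, ← hy, MonObj.mul_comp _ _ e.hom, MonObj.mul_comp _ _ e.hom,
    GrpObj.inv_comp _ e.hom, Category.assoc, Category.assoc, Iso.inv_hom_id, Category.comp_id]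

theorem isMonHom_inv {G G' : Over S} [GrpObj G] [GrpObj G'] (e : G ≅ G') [IsMonHom e.hom] :
    IsMonHom e.inv := inferInstance

/-- The fibre of `G` along `f` has a closed subgroup of dimension `d` with property `R`, normal if
asked for. -/
def HasSub (nrm : Prop) (R : ∀ {S : Scheme.{u}} (H : Over S) [GrpObj H], Prop) (G : Over S) [GrpObj G]
    (f : S' ⟶ S) (d : WithBot ℕ∞) : Prop :=
  ∃ (H : Over S') (_ : GrpObj H) (i : H ⟶ Red.bc f G),
    IsMonHom i ∧ IsClosedImmersion i.left ∧ (nrm → AlgGrp.IsNormalHom i) ∧ R H ∧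
      topologicalKrullDim ↥H.left = d

variable {nrm : Prop} {R : ∀ {S : Scheme.{u}} (H : Over S) [GrpObj H], Prop} {d : WithBot ℕ∞}
  (G : Over S) [GrpObj G]

theorem hasSub_comp {x : S'' ⟶ S'} {π : S' ⟶ S} {p : S'' ⟶ S} (hp : x ≫ π = p)
    (h : HasSub nrm R (Red.bc π G) x d) : HasSub nrm R G p d := by
  obtain ⟨H, _, i, hm, hc, hn, hR, hd⟩ := h
  haveI := hm; haveI := hc
  haveI := CartanDescent.isMonHom_compIso x π hp G
  haveI : IsIso (CartanDescent.compIso x π hp G).hom.left :=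
    ((Over.forget _).mapIso (CartanDescent.compIso x π hp G)).isIso_hom
  exact ⟨H, inferInstance, i ≫ (CartanDescent.compIso x π hp G).hom, inferInstance,
    by rw [Over.comp_left]; infer_instance,
    fun hh => isNormalHom_comp_iso i (hn hh) (CartanDescent.compIso x π hp G), hR, hd⟩

theorem hasSub_of_comp {x : S'' ⟶ S'} {π : S' ⟶ S} {p : S'' ⟶ S} (hp : x ≫ π = p)
    (h : HasSub nrm R G p d) : HasSub nrm R (Red.bc π G) x d := by
  obtain ⟨H, _, i, hm, hc, hn, hR, hd⟩ := h
  haveI := hm; haveI := hc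
  haveI := CartanDescent.isMonHom_compIso x π hp G
  let e := (CartanDescent.compIso x π hp G).symm
  haveI : IsMonHom e.hom := isMonHom_inv (CartanDescent.compIso x π hp G)
  haveI : IsIso e.hom.left := ((Over.forget _).mapIso e).isIso_hom
  exact ⟨H, inferInstance, i ≫ e.hom, inferInstance,
    by rw [Over.comp_left]; infer_instance, fun hh => isNormalHom_comp_iso i (hn hh) e, hR, hd⟩

theorem hasSub_of_isIso (hR : Inherited R) (t : S'' ⟶ S') [IsIso t] {f : S' ⟶ S} {p : S'' ⟶ S}
    (hp : t ≫ f = p) (h : HasSub nrm R G f d) : HasSub nrm R G p d := by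
  refine hasSub_comp G hp ?_
  obtain ⟨H, _, i, hm, hc, hn, hRH, hd⟩ := h
  haveI := hm; haveI := hc
  refine ⟨Red.bc t H, inferInstance, (Over.pullback t).map i, inferInstance, ?_,
    fun hh => isNormalHom_bc t i (hn hh), hR _ _ (subPts_bc t H) hRH, ?_⟩
  · exact GrpSch.bc_map_left_of (P := @IsClosedImmersion) t i hc
  · rw [← hd]
    exact IsHomeomorph.topologicalKrullDim_eq _
      (Scheme.homeoOfIso (asIso (pullback.fst H.hom t))).isHomeomorph

end Groth.Agent.Lib.SpecSub
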