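import Groth.Agent.Lib.SpecSub.Geometric
import Groth.Agent.Lib.ActSep.NeutralHom
import Groth.Agent.S4098
import Groth.Agent.S5322

/-!
# Specialisation of subgroups containing the commutators
-/

set_option autoImplicit false
set_option linter.style.haveILetI false
set_option backward.isDefEq.respectTransparency false

universe u

open CategoryTheory CategoryTheory.Limits MonoidalCategory CartesianMonoidalCategory MonObj GrpObj AlgebraicGeometry
open Groth.Agent.Lib Groth.Agent.Lib.RedPts Groth.Agent.Lib.SmWeil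

namespace Groth.Agent.Lib.SpecSub.Derived

/-- `i` contains all commutators. -/
def HasComm {S : Scheme.{u}} {N G : Over S} [GrpObj G] (i : N ⟶ G) : Prop :=
  ∀ (T : Over S) (g h : T ⟶ G), ∃ m : T ⟶ N, g * h * g⁻¹ * h⁻¹ = m ≫ i

theorem hasComm_bc {S S' : Scheme.{u}} (t : S' ⟶ S) {N G : Over S} [GrpObj G] {i : N ⟶ G} (hi : HasComm i) :
    HasComm ((Over.pullback t).map i : Red.bc t N ⟶ Red.bc t G) := by
  intro T g h
  obtain ⟨y, hy⟩ := hi _ (BC.down t g) (BC.down t h)
  exact ⟨BC.up t y, BC.down_injective (by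
    rw [BC.down_mul, BC.down_mul, BC.down_mul, BC.down_inv, BC.down_inv, BC.down_map, BC.down_up, hy])⟩

theorem hasComm_comp_iso {S : Scheme.{u}} {N G G' : Over S} [GrpObj G] [GrpObj G'] {i : N ⟶ G} (hi : HasComm i)
    (e : G ≅ G') [IsMonHom e.hom] : HasComm (i ≫ e.hom) := by
  intro T g h
  obtain ⟨y, hy⟩ := hi T (g ≫ e.inv) (h ≫ e.inv)
  refine ⟨y, ?_⟩
  rw [← Category.assoc y, ← hy]
  simp [MonObj.mul_comp, GrpObj.inv_comp]

/-- Transport of subgroup data along an isomorphism of ambient groups. -/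
theorem transport {S : Scheme.{u}} {G G' : Over S} [GrpObj G] [GrpObj G'] (e : G ≅ G') [IsMonHom e.hom]
    {N : Over S} [GrpObj N] (i : N ⟶ G) [IsMonHom i] [IsClosedImmersion i.left] (hn : AlgGrp.IsNormalHom i)
    (hc : HasComm i) :
    IsMonHom (i ≫ e.hom) ∧ IsClosedImmersion (i ≫ e.hom).left ∧ AlgGrp.IsNormalHom (i ≫ e.hom) ∧
      HasComm (i ≫ e.hom) := by
  haveI : IsIso e.hom.left := ((Over.forget _).mapIso e).isIso_hom
  exact ⟨inferInstance, by rw [Over.comp_left]; infer_instance, isNormalHom_comp_iso i hn e, hasComm_comp_iso hc e⟩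

variable {V : Type u} [CommRing V] [IsDomain V] [ValuationRing V] {F : Type u} [Field F] [Algebra V F]
  [IsFractionRing V F] {Ω : Type u} [Field Ω]

/-- The closure of a normal subgroup containing the commutators specialises to one with the same property. -/
theorem exists_special (π : V →+* Ω) (G : Over (Spec (CommRingCat.of V))) [GrpObj G] [Flat G.hom]
    [LocallyOfFiniteType G.hom] [QuasiCompact G.hom] (N : Over (Spec (CommRingCat.of F))) [GrpObj N]
    (i : N ⟶ Red.bc (Spec.map (CommRingCat.ofHom (algebraMap V F))) G) [IsMonHom i] [IsClosedImmersion i.left]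
    (hn : AlgGrp.IsNormalHom i) (hc : HasComm i) :
    ∃ (N' : Over (Spec (CommRingCat.of Ω))) (_ : GrpObj N') (i' : N' ⟶ Red.bc (Spec.map (CommRingCat.ofHom π)) G),
      IsMonHom i' ∧ IsClosedImmersion i'.left ∧ AlgGrp.IsNormalHom i' ∧ HasComm i' ∧
        topologicalKrullDim ↥N'.left = topologicalKrullDim ↥N.left := by
  let t := Spec.map (CommRingCat.ofHom π)
  obtain ⟨H, _, j, e, hjm, hjc, hem, hHf, hHlft, hHqc, he, hl⟩ := ValSub.exists_closure G N i
  haveI := hjm; haveI := hjc; haveI := hem; haveI := hHf; haveI := hHlft; haveI := hHqc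
  have hcj : HasComm j := by
    haveI : Flat (G ⊗ G).hom := by
      rw [← Over.w (fst G G)]
      exact MorphismProperty.comp_mem @Flat _ _ (GrpSch.fst_left_of (P := @Flat) G ‹Flat G.hom›) ‹Flat G.hom›
    let Φ : G ⊗ G ⟶ G := fst G G * snd G G * (fst G G)⁻¹ * (snd G G)⁻¹
    obtain ⟨y, hy⟩ := hc _ ((Over.pullback (Spec.map (CommRingCat.ofHom (algebraMap V F)))).map (fst G G))
      ((Over.pullback (Spec.map (CommRingCat.ofHom (algebraMap V F)))).map (snd G G))
    obtain ⟨Φ', hΦ'⟩ := hl (G ⊗ G) Φ y (by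
      rw [← hy]
      simp [Φ, Functor.map_mul, Functor.map_inv'])
    intro T a b
    refine ⟨CartesianMonoidalCategory.lift a b ≫ Φ', ?_⟩
    rw [Category.assoc, hΦ']
    simp [Φ, MonObj.comp_mul, GrpObj.comp_inv]
  haveI : IsIso e.hom.left := ((Over.forget _).mapIso e).isIso_hom
  refine ⟨Red.bc t H, inferInstance, (Over.pullback t).map j, inferInstance,
    GrpSch.bc_map_left_of (P := @IsClosedImmersion) t j hjc,
    isNormalHom_bc t j (ValSub.isNormal_closure j i e he hn hl), hasComm_bc t hcj, ?_⟩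
  rw [ValSub.dim_special_eq (F := F) π H]
  exact (IsHomeomorph.topologicalKrullDim_eq _ (Scheme.homeoOfIso (asIso e.hom.left)).isHomeomorph).symm

/-- The same for a group over an arbitrary base. -/
theorem exists_special_of (π : V →+* Ω) {S : Scheme.{u}} (G : Over S) [GrpObj G] [Flat G.hom]
    [LocallyOfFiniteType G.hom] [QuasiCompact G.hom]
    (g : Spec (CommRingCat.of V) ⟶ S) {a : Spec (CommRingCat.of F) ⟶ S} {b : Spec (CommRingCat.of Ω) ⟶ S}
    (ha : Spec.map (CommRingCat.ofHom (algebraMap V F)) ≫ g = a) (hb : Spec.map (CommRingCat.ofHom π) ≫ g = b)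
    (N : Over (Spec (CommRingCat.of F))) [GrpObj N] (i : N ⟶ Red.bc a G) [IsMonHom i] [IsClosedImmersion i.left]
    (hn : AlgGrp.IsNormalHom i) (hc : HasComm i) :
    ∃ (N' : Over (Spec (CommRingCat.of Ω))) (_ : GrpObj N') (i' : N' ⟶ Red.bc b G),
      IsMonHom i' ∧ IsClosedImmersion i'.left ∧ AlgGrp.IsNormalHom i' ∧ HasComm i' ∧
        topologicalKrullDim ↥N'.left = topologicalKrullDim ↥N.left ∧
        topologicalKrullDim ↥(Red.bc b G).left = topologicalKrullDim ↥(Red.bc a G).left := by
  let t := Spec.map (CommRingCat.ofHom π)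
  let f := Spec.map (CommRingCat.ofHom (algebraMap V F))
  haveI : Flat (Red.bc g G).hom := MorphismProperty.pullback_snd (P := @Flat) _ _ ‹_›
  haveI : LocallyOfFiniteType (Red.bc g G).hom :=
    MorphismProperty.pullback_snd (P := @LocallyOfFiniteType) _ _ ‹_›
  haveI : QuasiCompact (Red.bc g G).hom := MorphismProperty.pullback_snd (P := @QuasiCompact) _ _ ‹_›
  let κ := (CartanDescent.compIso f g ha G).symm
  haveI := CartanDescent.isMonHom_compIso f g ha G
  haveI : IsMonHom κ.hom := isMonHom_inv (CartanDescent.compIso f g ha G)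
  obtain ⟨h1, h2, h3, h4⟩ := transport κ i hn hc
  haveI := h1; haveI := h2
  obtain ⟨N', _, i', hm', hc', hn', hcomm', hd⟩ := exists_special π (Red.bc g G) N (i ≫ κ.hom) h3 h4
  haveI := hm'; haveI := hc'
  let κ' := CartanDescent.compIso t g hb G
  haveI := CartanDescent.isMonHom_compIso t g hb G
  obtain ⟨h1', h2', h3', h4'⟩ := transport κ' i' hn' hcomm'
  refine ⟨N', inferInstance, i' ≫ κ'.hom, h1', h2', h3', h4', hd, ?_⟩
  haveI : IsIso κ'.hom.left := ((Over.forget _).mapIso κ').isIso_hom
  haveI : IsIso κ.hom.left := ((Over.forget _).mapIso κ).isIso_hom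
  rw [← IsHomeomorph.topologicalKrullDim_eq _ (Scheme.homeoOfIso (asIso κ'.hom.left)).isHomeomorph,
    ValSub.dim_special_eq (F := F) π (Red.bc g G)]
  exact (IsHomeomorph.topologicalKrullDim_eq _ (Scheme.homeoOfIso (asIso κ.hom.left)).isHomeomorph).symm

/-- An open immersion onto the neutral set is a clopen connected subgroup after base change to a field. -/
theorem range_bc_neutral {S : Scheme.{u}} {G G0 : Over S} [GrpObj G] [GrpObj G0] (j : G0 ⟶ G) [IsMonHom j]
    (hr : Set.range j.left.base = SGA3x.neutralSet G) {K : Type u} [Field K] (p : Spec (CommRingCat.of K) ⟶ S) :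
    Set.range ((Over.pullback p).map j).left =
      connectedComponent ((η[Red.bc p G] : _ ⟶ Red.bc p G).left (IsLocalRing.closedPoint K)) := by
  have sq := GrpSch.isPullback_bc_map p j
  rw [← sq.isoPullback_hom_fst, Scheme.Hom.comp_base, TopCat.coe_comp, Set.range_comp,
    Set.range_eq_univ.2 sq.isoPullback.hom.surjective, Set.image_univ, Scheme.Pullback.range_fst, hr,
    ← ActSep.neutralSet_field_eq (Red.bc p G)]
  exact (Groth.Agent.S5322.result S _ p G).symm

theorem exists_special_neutral (π : V →+* Ω) {S : Scheme.{u}} (G : Over S) [GrpObj G] [Smooth G.hom]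
    [QuasiCompact G.hom]
    (g : Spec (CommRingCat.of V) ⟶ S) {a : Spec (CommRingCat.of F) ⟶ S} {b : Spec (CommRingCat.of Ω) ⟶ S}
    (ha : Spec.map (CommRingCat.ofHom (algebraMap V F)) ≫ g = a) (hb : Spec.map (CommRingCat.ofHom π) ≫ g = b)
    (C : Over (Spec (CommRingCat.of F))) [GrpObj C] (c : C ⟶ Red.bc a G) [IsMonHom c] [IsOpenImmersion c.left]
    [IsClosedImmersion c.left] [ConnectedSpace C.left]
    (N : Over (Spec (CommRingCat.of F))) [GrpObj N] (i : N ⟶ C) [IsMonHom i] [IsClosedImmersion i.left]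
    (hn : AlgGrp.IsNormalHom i) (hc : HasComm i) :
    ∃ (C' : Over (Spec (CommRingCat.of Ω))) (_ : GrpObj C') (c' : C' ⟶ Red.bc b G)
      (N' : Over (Spec (CommRingCat.of Ω))) (_ : GrpObj N') (i' : N' ⟶ C'),
      IsMonHom c' ∧ IsOpenImmersion c'.left ∧ IsClosedImmersion c'.left ∧ ConnectedSpace C'.left ∧
      IsMonHom i' ∧ IsClosedImmersion i'.left ∧ AlgGrp.IsNormalHom i' ∧ HasComm i' ∧
        topologicalKrullDim ↥N'.left = topologicalKrullDim ↥N.left := by
  obtain ⟨-, G0, gG0, j, hjm, hjo, hjr, hjs, hjq⟩ := Groth.Agent.S4098.result S G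
    ⟨⊤, inferInstanceAs (Smooth ((⊤ : G.left.Opens).ι ≫ G.hom)), fun _ => trivial⟩
  haveI := hjm; haveI := hjo; haveI := hjs; haveI := hjq
  -- the two base changes of `G0`
  have hopen : ∀ {K : Type u} [Field K] (p : Spec (CommRingCat.of K) ⟶ S),
      IsOpenImmersion ((Over.pullback p).map j).left := fun p =>
    GrpSch.bc_map_left_of (P := @IsOpenImmersion) p j hjo
  have hcl : ∀ {K : Type u} [Field K] (p : Spec (CommRingCat.of K) ⟶ S),
      IsClosedImmersion ((Over.pullback p).map j).left ∧ ConnectedSpace (Red.bc p G0).left := by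
    intro K _ p
    haveI := hopen p
    have hr := range_bc_neutral j hjr p
    refine ⟨IsClosedImmersion.of_isPreimmersion _ (hr ▸ isClosed_connectedComponent), ?_⟩
    have hcon : _root_.IsConnected (Set.range ((Over.pullback p).map j).left) := hr ▸ isConnected_connectedComponent
    haveI := isConnected_iff_connectedSpace.1 hcon
    let h := ((Over.pullback p).map j).left.isOpenEmbedding.isEmbedding.toHomeomorph
    exact h.symm.surjective.connectedSpace h.symm.continuous
  haveI := hopen a
  haveI := hopen b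
  obtain ⟨hcla, -⟩ := hcl a
  obtain ⟨hclb, hconb⟩ := hcl b
  -- `C` is the base change of `G0`
  have hrC : Set.range c.left = Set.range ((Over.pullback a).map j).left := by
    rw [range_bc_neutral j hjr a]
    refine Set.Subset.antisymm ((isPreconnected_range c.left.continuous).subset_connectedComponent ?_) ?_
    · exact ⟨η[C].left (IsLocalRing.closedPoint F), by
        rw [← Scheme.Hom.comp_apply, ← Over.comp_left, IsMonHom.one_hom]⟩
    · refine IsClopen.connectedComponent_subset ⟨c.left.isClosedEmbedding.isClosed_range, c.left.isOpenEmbedding.isOpen_range⟩ ?_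
      exact ⟨η[C].left (IsLocalRing.closedPoint F), by
        rw [← Scheme.Hom.comp_apply, ← Over.comp_left, IsMonHom.one_hom]⟩
  let e0 := IsOpenImmersion.isoOfRangeEq c.left ((Over.pullback a).map j).left hrC
  have he0 : e0.hom ≫ ((Over.pullback a).map j).left = c.left := IsOpenImmersion.isoOfRangeEq_hom_fac _ _ hrC
  let e : C ≅ Red.bc a G0 := Over.isoMk e0 (by
    rw [← Over.w ((Over.pullback a).map j), reassoc_of% he0, Over.w c])
  have he : e.hom ≫ (Over.pullback a).map j = c := Over.OverMorphism.ext he0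
  haveI : Mono ((Over.pullback a).map j) := Over.mono_of_mono_left _
  haveI : IsMonHom e.hom :=
    { one_hom := by
        rw [← cancel_mono ((Over.pullback a).map j), Category.assoc, he, IsMonHom.one_hom, IsMonHom.one_hom]
      mul_hom := by
        rw [← cancel_mono ((Over.pullback a).map j), Category.assoc, he, IsMonHom.mul_hom,
          Category.assoc, IsMonHom.mul_hom, MonoidalCategory.tensorHom_comp_tensorHom_assoc, he] }
  obtain ⟨h1, h2, h3, h4⟩ := transport e i hn hc
  haveI := h1; haveI := h2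
  obtain ⟨N', gN', i', hm', hc', hn', hcomm', hd, -⟩ := exists_special_of π G0 g ha hb N (i ≫ e.hom) h3 h4
  exact ⟨Red.bc b G0, inferInstance, (Over.pullback b).map j, N', gN', i', inferInstance, inferInstance, hclb, hconb,
    hm', hc', hn', hcomm', hd⟩

end Groth.Agent.Lib.SpecSub.Derived
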