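import Groth.Agent.Lib.SpecSub.Basic
import Groth.Agent.Lib.TorsorSch.Closure
import Groth.Agent.S3022

/-!
# Specialisation of subgroups over a discrete valuation ring
-/

set_option autoImplicit false
set_option linter.style.haveILetI false
set_option backward.isDefEq.respectTransparency false

universe u

open CategoryTheory CategoryTheory.Limits MonoidalCategory CartesianMonoidalCategory MonObj GrpObj AlgebraicGeometry
open Groth.Agent.Lib.RedPts Groth.Agent.Lib.TorsorSch

namespace Groth.Agent.Lib.SpecSub

theorem range_eq_singleton {L : Type u} [Field L] {S : Scheme.{u}} (f : Spec (CommRingCat.of L) ⟶ S)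
    (x : ↥(Spec (CommRingCat.of L))) : Set.range f = {f x} := by
  ext y
  refine ⟨?_, fun h => ⟨x, h.symm⟩⟩
  rintro ⟨z, rfl⟩
  exact congrArg f (Subsingleton.elim (α := PrimeSpectrum L) z x)

/-- The dimension of the base change along a preimmersion from a one point scheme. -/
theorem dim_bc_eq {S T : Scheme.{u}} (H : Over S) (f : T ⟶ S) [IsPreimmersion f] (s : S)
    (hs : Set.range f = {s}) :
    topologicalKrullDim ↥(Red.bc f H).left = topologicalKrullDim ↥(H.hom.base ⁻¹' {s}) := by
  haveI : IsPreimmersion (pullback.fst H.hom f) := MorphismProperty.pullback_fst (P := @IsPreimmersion) _ _ ‹_›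
  have hr : Set.range (pullback.fst H.hom f) = H.hom.base ⁻¹' {s} := by
    rw [Scheme.Pullback.range_fst, hs]
  have e1 := IsHomeomorph.topologicalKrullDim_eq _
    (pullback.fst H.hom f).isEmbedding.toHomeomorph.isHomeomorph
  exact e1.trans (IsHomeomorph.topologicalKrullDim_eq _ (Homeomorph.setCongr hr).isHomeomorph)

/-- The schematic closure of a subgroup of the generic fibre, with its generic fibre. -/
theorem exists_flat_closure (A : Type u) [CommRing A] [IsDomain A] [IsDiscreteValuationRing A]
    (K : Type u) [Field K] [Algebra A K] [IsFractionRing A K]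
    (G : Over (Spec (CommRingCat.of A))) [GrpObj G] [Flat G.hom] [LocallyOfFiniteType G.hom] [QuasiCompact G.hom]
    (HK : Over (Spec (CommRingCat.of K))) [GrpObj HK]
    (i : HK ⟶ Red.bc (Spec.map (CommRingCat.ofHom (algebraMap A K))) G) [IsMonHom i] [IsClosedImmersion i.left] :
    ∃ (H : Over (Spec (CommRingCat.of A))) (_ : GrpObj H) (j : H ⟶ G)
      (e : HK ≅ Red.bc (Spec.map (CommRingCat.ofHom (algebraMap A K))) H),
      IsMonHom j ∧ IsClosedImmersion j.left ∧ IsMonHom e.hom ∧ Flat H.hom ∧
        LocallyOfFinitePresentation H.hom ∧ QuasiCompact H.hom ∧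
        (AlgGrp.IsNormalHom i → AlgGrp.IsNormalHom j) := by
  let g := Spec.map (CommRingCat.ofHom (algebraMap A K))
  have hinj : Function.Injective (algebraMap A K) := IsFractionRing.injective _ _
  haveI : Mono g := by
    have : Epi (CommRingCat.ofHom (algebraMap A K)) := IsLocalization.epi (nonZeroDivisors A) K
    exact inferInstanceAs (Mono (Scheme.Spec.map (CommRingCat.ofHom (algebraMap A K)).op))
  haveI : IsSchemeTheoreticallyDominant g := GrpQ.isSchemeTheoreticallyDominant_fractionRing A K
  haveI : Flat g := by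
    rw [HasRingHomProperty.Spec_iff (P := @Flat)]
    exact RingHom.flat_algebraMap_iff.mpr (IsLocalization.flat K (nonZeroDivisors A))
  obtain ⟨H, _, j, φ, hjm, hjc, hHf, sq, hφ, -⟩ := Closure.exists_closure g
    (fun p q d _ _ hd => Closure.flat_of_std' p q d _ hinj hd) G HK i
  haveI := hjm; haveI := hjc; haveI := hHf
  haveI : LocallyOfFiniteType H.hom := by rw [← Over.w j]; infer_instance
  haveI : QuasiCompact H.hom := by rw [← Over.w j]; infer_instance
  let e : HK ≅ Red.bc g H := Over.isoMk sq.isoPullback sq.isoPullback_hom_snd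
  have he : e.hom ≫ (Over.pullback g).map j = i := by
    apply Over.OverMorphism.ext
    apply pullback.hom_ext
    · simp [e]
      exact hφ
    · exact (Over.w (e.hom ≫ (Over.pullback g).map j)).trans (Over.w i).symm
  haveI : IsClosedImmersion ((Over.pullback g).map j).left :=
    GrpSch.bc_map_left_of (P := @IsClosedImmersion) g j hjc
  haveI : Mono ((Over.pullback g).map j) := Over.mono_of_mono_left _
  haveI : IsMonHom e.hom :=
    { one_hom := by
        rw [← cancel_mono ((Over.pullback g).map j), Category.assoc, he, IsMonHom.one_hom,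
          IsMonHom.one_hom]
      mul_hom := by
        rw [← cancel_mono ((Over.pullback g).map j), Category.assoc, he, IsMonHom.mul_hom,
          Category.assoc, IsMonHom.mul_hom, MonoidalCategory.tensorHom_comp_tensorHom_assoc, he] }
  refine ⟨H, inferInstance, j, e, hjm, hjc, inferInstance, hHf, inferInstance, inferInstance, ?_⟩
  intro hn
  -- the universal conjugate lifts to the closure
  haveI : Flat (G ⊗ H).hom := by
    rw [← Over.w (fst G H)]
    exact MorphismProperty.comp_mem @Flat _ _ (GrpSch.fst_left_of (P := @Flat) G hHf) ‹Flat G.hom›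
  let Φ : G ⊗ H ⟶ G := fst G H * (snd G H ≫ j) * (fst G H)⁻¹
  obtain ⟨y, hy⟩ := hn _ ((Over.pullback g).map (fst G H)) ((Over.pullback g).map (snd G H) ≫ e.inv)
  obtain ⟨Φ', hΦ'⟩ := Closure.exists_lift g j i φ hφ (G ⊗ H) Φ y (by
    rw [← hy, Category.assoc, ← he, e.inv_hom_id_assoc]
    simp [Φ, Functor.map_mul, Functor.map_inv', Functor.map_comp])
  intro T a b
  refine ⟨CartesianMonoidalCategory.lift a b ≫ Φ', ?_⟩
  rw [Category.assoc, hΦ']
  simp [Φ, MonObj.comp_mul, GrpObj.comp_inv]

/-- Subgroups of the generic fibre specialise over a discrete valuation ring. -/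
theorem hasSub_residue_of_dvr {nrm : Prop} {R : ∀ {S : Scheme.{u}} (H : Over S) [GrpObj H], Prop}
    (hR : Inherited R) (sep : Prop)
    (hspec : ∀ (A : Type u) [CommRing A] [IsDomain A] [IsDiscreteValuationRing A] (K : Type u) [Field K]
      [Algebra A K] [IsFractionRing A K] (H : Over (Spec (CommRingCat.of A))) [GrpObj H] [Flat H.hom]
      [LocallyOfFinitePresentation H.hom] [QuasiCompact H.hom], (sep → IsSeparated H.hom) →
      R (Red.bc (Spec.map (CommRingCat.ofHom (algebraMap A K))) H) →
      R (Red.bc (Spec.map (CommRingCat.ofHom (algebraMap A (IsLocalRing.ResidueField A)))) H))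
    (A : Type u) [CommRing A] [IsDomain A] [IsDiscreteValuationRing A]
    (K : Type u) [Field K] [Algebra A K] [IsFractionRing A K]
    (G : Over (Spec (CommRingCat.of A))) [GrpObj G] [Flat G.hom] [LocallyOfFinitePresentation G.hom]
    [QuasiCompact G.hom] (hsep : sep → IsSeparated G.hom) {d : WithBot ℕ∞}
    (h : HasSub nrm R G (Spec.map (CommRingCat.ofHom (algebraMap A K))) d) :
    HasSub nrm R G (Spec.map (CommRingCat.ofHom (algebraMap A (IsLocalRing.ResidueField A)))) d := by
  obtain ⟨HK, _, i, hm, hc, hn, hRH, hd⟩ := h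
  haveI := hm; haveI := hc
  obtain ⟨H, _, j, e, hjm, hjc, hem, hHf, hHfp, hHqc, hHn⟩ := exists_flat_closure A K G HK i
  haveI := hjm; haveI := hjc; haveI := hem; haveI := hHf; haveI := hHfp; haveI := hHqc
  let g := Spec.map (CommRingCat.ofHom (algebraMap A K))
  let r := Spec.map (CommRingCat.ofHom (algebraMap A (IsLocalRing.ResidueField A)))
  refine ⟨Red.bc r H, inferInstance, (Over.pullback r).map j, inferInstance,
    GrpSch.bc_map_left_of (P := @IsClosedImmersion) r j hjc,
    fun hh => isNormalHom_bc r j (hHn (hn hh)), ?_, ?_⟩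
  · refine hspec A K H (fun hs => ?_) ?_
    · haveI := hsep hs
      rw [← Over.w j]; infer_instance
    · haveI : IsMonHom e.inv := isMonHom_inv e
      exact hR _ _ (subPts_of_mono e.inv) hRH
  · have hloc := (Groth.Agent.S3022.result (Spec (CommRingCat.of A)) H).apply_eq_of_preconnectedSpace
    haveI : IsPreimmersion g := IsPreimmersion.of_isLocalization (nonZeroDivisors A)
    haveI : IsClosedImmersion r := IsClosedImmersion.spec_of_surjective _ IsLocalRing.residue_surjective
    haveI : IsIso e.hom.left := ((Over.forget _).mapIso e).isIso_hom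
    rw [← hd, IsHomeomorph.topologicalKrullDim_eq _ (Scheme.homeoOfIso (asIso e.hom.left)).isHomeomorph,
      dim_bc_eq H r (r (IsLocalRing.closedPoint (IsLocalRing.ResidueField A))) (range_eq_singleton _ _),
      dim_bc_eq H g (g (IsLocalRing.closedPoint K)) (range_eq_singleton _ _)]
    exact hloc _ _

end Groth.Agent.Lib.SpecSub
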