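import Groth.Agent.Lib.SpecSub.ValDim
import Groth.Agent.Lib.SpecSub.Basic
import Groth.Agent.Lib.TorsorSch.Closure
import Groth.Agent.H56.DimBaseChange
import Groth.Agent.Lib.SemiAbIsog.CompDim
import Groth.Agent.Lib.GrpQ.RedSubgroup
import Groth.Agent.H63.GrpSmooth
import Groth.Agent.S5342
import Groth.Agent.Lib.GrpSch.SmoothReduced
import Mathlib.AlgebraicGeometry.AlgClosed.Basic
import Mathlib.AlgebraicGeometry.Morphisms.SmoothFiber

/-!
# Specialisation of subgroups over a valuation ring
-/

set_option autoImplicit false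
set_option linter.style.haveILetI false
set_option backward.isDefEq.respectTransparency false
set_option maxHeartbeats 800000

universe u

open CategoryTheory CategoryTheory.Limits MonoidalCategory CartesianMonoidalCategory MonObj GrpObj AlgebraicGeometry
open Groth.Agent.Lib Groth.Agent.Lib.RedPts Groth.Agent.Lib.TorsorSch

namespace Groth.Agent.Lib.SpecSub.ValSub

/-- The dimension of the pullback to a field is the dimension of the fibre. -/
theorem dim_bc {S : Scheme.{u}} {C : Over S} [LocallyOfFiniteType C.hom] {L : Type u} [Field L]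
    (k : Spec (CommRingCat.of L) ⟶ S) :
    topologicalKrullDim ↥(Red.bc k C).left = topologicalKrullDim ↥(C.hom ⁻¹' {k (IsLocalRing.closedPoint L)}) := by
  let p := k (IsLocalRing.closedPoint L)
  let q : Spec (CommRingCat.of L) ⟶ Spec (S.residueField p) :=
    Spec.map (S.descResidueField (Scheme.stalkClosedPointTo k))
  have hk : q ≫ S.fromSpecResidueField p = k :=
    Scheme.descResidueField_stalkClosedPointTo_fromSpecResidueField L S k
  let e : (Red.bc k C).left ≅ pullback (pullback.snd C.hom (S.fromSpecResidueField p)) q :=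
    pullback.congrHom rfl hk.symm ≪≫ (pullbackLeftPullbackSndIso C.hom (S.fromSpecResidueField p) q).symm
  haveI : LocallyOfFiniteType (pullback.snd C.hom (S.fromSpecResidueField p)) :=
    locallyOfFiniteType_isStableUnderBaseChange.of_isPullback
      (IsPullback.of_hasPullback C.hom (S.fromSpecResidueField p)) inferInstance
  rw [IsHomeomorph.topologicalKrullDim_eq _ (Scheme.homeoOfIso e).isHomeomorph]
  refine (Groth.Agent.H56.DimBaseChange.topologicalKrullDim_baseChange q _ _ _
    (IsPullback.of_hasPullback (pullback.snd C.hom (S.fromSpecResidueField p)) q)).trans ?_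
  exact IsHomeomorph.topologicalKrullDim_eq _ (C.hom.fiberHomeo p).isHomeomorph

variable {V : Type u} [CommRing V] [IsDomain V]

theorem genMap_closedPoint {F : Type u} [Field F] (φ : V →+* F) (hφ : Function.Injective φ)
    (x : ↥(Spec (CommRingCat.of F))) : Spec.map (CommRingCat.ofHom φ) x = ValDim.gen V := by
  refine PrimeSpectrum.ext ?_
  show Ideal.comap φ (x : PrimeSpectrum F).asIdeal = ⊥
  rw [(Ideal.eq_bot_or_top (x : PrimeSpectrum F).asIdeal).resolve_right (x : PrimeSpectrum F).isPrime.ne_top,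
    ← RingHom.ker_eq_comap_bot, (RingHom.injective_iff_ker_eq_bot φ).1 hφ]

variable [ValuationRing V] {F : Type u} [Field F] [Algebra V F] [IsFractionRing V F]
  {Ω : Type u} [Field Ω] (π : V →+* Ω)

local notation "gB" => Spec.map (CommRingCat.ofHom (algebraMap V F))

/-- The schematic closure over a valuation ring of a subgroup of the generic fibre. -/
theorem exists_closure (G : Over (Spec (CommRingCat.of V))) [GrpObj G] [LocallyOfFiniteType G.hom]
    [QuasiCompact G.hom] (HK : Over (Spec (CommRingCat.of F))) [GrpObj HK]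
    (i : HK ⟶ Red.bc gB G) [IsMonHom i] [IsClosedImmersion i.left] :
    ∃ (H : Over (Spec (CommRingCat.of V))) (_ : GrpObj H) (j : H ⟶ G) (e : HK ≅ Red.bc gB H),
      IsMonHom j ∧ IsClosedImmersion j.left ∧ IsMonHom e.hom ∧ Flat H.hom ∧
        LocallyOfFiniteType H.hom ∧ QuasiCompact H.hom ∧ e.hom ≫ (Over.pullback gB).map j = i ∧
        ∀ (W : Over (Spec (CommRingCat.of V))) [Flat W.hom] (w : W ⟶ G) (l : Red.bc gB W ⟶ HK),
          l ≫ i = (Over.pullback gB).map w → ∃ w' : W ⟶ H, w' ≫ j = w := by
  let g := gB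
  have hinj : Function.Injective (algebraMap V F) := IsFractionRing.injective _ _
  haveI : Mono g := by
    have : Epi (CommRingCat.ofHom (algebraMap V F)) := IsLocalization.epi (nonZeroDivisors V) F
    exact inferInstanceAs (Mono (Scheme.Spec.map (CommRingCat.ofHom (algebraMap V F)).op))
  haveI : IsSchemeTheoreticallyDominant g := GrpQ.isSchemeTheoreticallyDominant_fractionRing V F
  haveI : Flat g := by
    rw [HasRingHomProperty.Spec_iff (P := @Flat)]
    exact RingHom.flat_algebraMap_iff.mpr (IsLocalization.flat F (nonZeroDivisors V))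
  obtain ⟨H, _, j, φ, hjm, hjc, hHf, sq, hφ, -⟩ := Closure.exists_closure g
    (fun p q d _ _ hd => ValDim.flat_of_std p q d _ hinj hd) G HK i
  haveI := hjm; haveI := hjc; haveI := hHf
  haveI : LocallyOfFiniteType H.hom := by rw [← Over.w j]; infer_instance
  haveI : QuasiCompact H.hom := by rw [← Over.w j]; infer_instance
  let e : HK ≅ Red.bc g H := Over.isoMk sq.isoPullback sq.isoPullback_hom_snd
  have he : e.hom ≫ (Over.pullback g).map j = i := by
    apply Over.OverMorphism.ext
    apply pullback.hom_ext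
    · simp [e]
      exact hφ
    · exact (Over.w (e.hom ≫ (Over.pullback g).map j)).trans (Over.w i).symm
  haveI : IsClosedImmersion ((Over.pullback g).map j).left :=
    GrpSch.bc_map_left_of (P := @IsClosedImmersion) g j hjc
  haveI : Mono ((Over.pullback g).map j) := Over.mono_of_mono_left _
  haveI : IsMonHom e.hom :=
    { one_hom := by
        rw [← cancel_mono ((Over.pullback g).map j), Category.assoc, he, IsMonHom.one_hom,
          IsMonHom.one_hom]
      mul_hom := by
        rw [← cancel_mono ((Over.pullback g).map j), Category.assoc, he, IsMonHom.mul_hom,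
          Category.assoc, IsMonHom.mul_hom, MonoidalCategory.tensorHom_comp_tensorHom_assoc, he] }
  exact ⟨H, inferInstance, j, e, hjm, hjc, inferInstance, hHf, inferInstance, inferInstance, he,
    fun W _ w l hl => Closure.exists_lift g j i φ hφ W w l hl⟩

/-- The conjugates lift to the closure. -/
theorem isNormal_closure {G H : Over (Spec (CommRingCat.of V))} [GrpObj G] [GrpObj H] [Flat G.hom] [Flat H.hom]
    (j : H ⟶ G) {HK : Over (Spec (CommRingCat.of F))} [GrpObj HK] (i : HK ⟶ Red.bc gB G)
    (e : HK ≅ Red.bc gB H) (he : e.hom ≫ (Over.pullback gB).map j = i) (hn : AlgGrp.IsNormalHom i)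
    (hl : ∀ (W : Over (Spec (CommRingCat.of V))) [Flat W.hom] (w : W ⟶ G) (l : Red.bc gB W ⟶ HK),
      l ≫ i = (Over.pullback gB).map w → ∃ w' : W ⟶ H, w' ≫ j = w) : AlgGrp.IsNormalHom j := by
  haveI : Flat (G ⊗ H).hom := by
    rw [← Over.w (fst G H)]
    exact MorphismProperty.comp_mem @Flat _ _ (GrpSch.fst_left_of (P := @Flat) G ‹Flat H.hom›) ‹Flat G.hom›
  let Φ : G ⊗ H ⟶ G := fst G H * (snd G H ≫ j) * (fst G H)⁻¹
  obtain ⟨y, hy⟩ := hn _ ((Over.pullback gB).map (fst G H)) ((Over.pullback gB).map (snd G H) ≫ e.inv)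
  obtain ⟨Φ', hΦ'⟩ := hl (G ⊗ H) Φ y (by
    rw [← hy, Category.assoc, ← he, e.inv_hom_id_assoc]
    simp [Φ, Functor.map_mul, Functor.map_inv', Functor.map_comp])
  intro T a b
  refine ⟨CartesianMonoidalCategory.lift a b ≫ Φ', ?_⟩
  rw [Category.assoc, hΦ']
  simp [Φ, MonObj.comp_mul, GrpObj.comp_inv]

/-- The fibres of the closure have the same dimension. -/
theorem dim_special_eq (H : Over (Spec (CommRingCat.of V))) [GrpObj H] [Flat H.hom] [LocallyOfFiniteType H.hom] :
    topologicalKrullDim ↥(Red.bc (Spec.map (CommRingCat.ofHom π)) H).left = topologicalKrullDim ↥(Red.bc gB H).left := by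
  rw [dim_bc, dim_bc]
  have h1 : ∀ x, gB x = ValDim.gen V := genMap_closedPoint _ (IsFractionRing.injective _ _)
  rw [show ∀ p : ↥(Spec (CommRingCat.of V)), (H.hom ⁻¹' {p} : Set H.left) = H.hom.base ⁻¹' {p} from fun _ => rfl]
  refine le_antisymm (le_of_le_of_eq (ValDim.dim_fibre_le_generic H.hom (ValDim.hgen_of_flat H.hom) _) ?_) ?_
  · exact congrArg (fun p => topologicalKrullDim ↥(H.hom.base ⁻¹' {p})) (h1 _).symm
  · refine le_of_eq_of_le (congrArg (fun p => topologicalKrullDim ↥(H.hom.base ⁻¹' {p})) (h1 _)) ?_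
    by_contra hlt
    have hu := (Groth.Agent.S5329.result (Spec (CommRingCat.of V)) H).1 _ _ (not_le.1 hlt)
    exact lt_irrefl _ ((hu.filter_mono (ValDim.gen_specializes _)).self_of_nhds)

variable [IsAlgClosed Ω]

/-- A universal tuple with smooth connected reduced parameter space. -/
theorem exists_connected_power (C : Over (Spec (CommRingCat.of Ω))) [GrpObj C] [Smooth C.hom] [ConnectedSpace C.left] :
    ∀ m : ℕ, ∃ (Q : Over (Spec (CommRingCat.of Ω))) (_ : Smooth Q.hom) (_ : ConnectedSpace Q.left)
      (ρ : Fin m → (Q ⟶ C)), ∀ (T : Over (Spec (CommRingCat.of Ω))) (v : Fin m → (T ⟶ C)), ∃ f : T ⟶ Q, ∀ a, f ≫ ρ a = v a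
  | 0 => by
    haveI : Smooth (𝟙_ (Over (Spec (CommRingCat.of Ω)))).hom := inferInstanceAs (Smooth (𝟙 _))
    haveI : Unique ↥(Spec (CommRingCat.of Ω)) := inferInstanceAs (Unique (PrimeSpectrum Ω))
    haveI : ConnectedSpace (𝟙_ (Over (Spec (CommRingCat.of Ω)))).left :=
      inferInstanceAs (ConnectedSpace ↥(Spec (CommRingCat.of Ω)))
    exact ⟨𝟙_ _, inferInstance, inferInstance, Fin.elim0, fun T v => ⟨toUnit T, fun a => a.elim0⟩⟩
  | m + 1 => by
    obtain ⟨Q, hQs, hQc, ρ, h⟩ := exists_connected_power C m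
    haveI := hQs; haveI := hQc
    obtain ⟨e, -⟩ := h (𝟙_ _) (fun _ => 1)
    haveI : Smooth (Q ⊗ C).hom := by
      rw [← Over.w (fst Q C)]
      exact MorphismProperty.comp_mem @Smooth _ _ (GrpSch.fst_left_of (P := @Smooth) Q ‹Smooth C.hom›) hQs
    haveI : ConnectedSpace (Q ⊗ C).left :=
      Groth.Agent.S5342.result Ω Q.left C.left Q.hom C.hom e.left (Over.w e)
    refine ⟨Q ⊗ C, inferInstance, inferInstance, Fin.snoc (fun i => fst Q C ≫ ρ i) (snd Q C), fun T v => ?_⟩
    obtain ⟨f, hf⟩ := h T fun i => v i.castSucc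
    refine ⟨CartesianMonoidalCategory.lift f (v (Fin.last m)), fun i => ?_⟩
    induction i using Fin.lastCases with
    | last => rw [Fin.snoc_last, lift_snd]
    | cast i => rw [Fin.snoc_castSucc, lift_fst_assoc, hf]

theorem isReduced_of_smooth (X : Over (Spec (CommRingCat.of Ω))) [Smooth X.hom] : IsReduced X.left :=
  GrpSch.isReduced_of_smooth_field X.hom

/-- A law of the generic fibre holds on smooth connected subgroups of the special fibre. -/
theorem law_special (H : Over (Spec (CommRingCat.of V))) [GrpObj H] [Flat H.hom] [LocallyOfFiniteType H.hom]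
    [QuasiCompact H.hom] (C : Over (Spec (CommRingCat.of Ω))) [GrpObj C] [Smooth C.hom] [ConnectedSpace C.left]
    (c : C ⟶ Red.bc (Spec.map (CommRingCat.ofHom π)) H) [IsMonHom c] [Mono c]
    {idx : Type} [Finite idx] (W : ∀ {M : Type u} [Group M], (idx → M) → M)
    (hW : ∀ {M M' : Type u} [Group M] [Group M'] (φ : M →* M') (v : idx → M), φ (W v) = W (φ ∘ v))
    (hgen : ∀ (X : Over (Spec (CommRingCat.of F))) (v : idx → (X ⟶ Red.bc gB H)), W v = 1)
    (X : Over (Spec (CommRingCat.of Ω))) (v : idx → (X ⟶ C)) : W v = 1 := by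
  let t := Spec.map (CommRingCat.ofHom π)
  obtain ⟨m, ⟨e⟩⟩ := Finite.exists_equiv_fin idx
  obtain ⟨P, hP, p, hp⟩ := GrpQ.exists_power H m
  obtain ⟨Q, hQs, hQc, ρ, hρ⟩ := exists_connected_power C m
  haveI := hQs; haveI := hQc; haveI := isReduced_of_smooth Q
  -- the universal value of the law on `H` is trivial on the generic fibre
  let u : P ⟶ H := W (fun a => p (e a))
  have hu : (Over.pullback gB).map u = 1 := by
    have h1 := hW ((Over.pullback gB).homMonoidHom (X := P) (M := H)) (fun a => p (e a))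
    rw [hgen] at h1
    exact h1
  let one : 𝟙_ (Over (Spec (CommRingCat.of V))) ⟶ H := 1
  have hone : (1 : P ⟶ H).left = P.hom ≫ one.left := by
    rw [show (1 : P ⟶ H) = toUnit P ≫ one from (MonObj.comp_one _).symm, Over.comp_left]
    congr 1
  let s0 : ↥(Spec (CommRingCat.of V)) := t (IsLocalRing.closedPoint Ω)
  let x0 : H.left := one.left (ValDim.gen V)
  have hsec : ∀ y, H.hom (one.left y) = y := fun y => by
    rw [← Scheme.Hom.comp_apply, Over.w]; rfl
  -- the image of `u` lies in the closure of the generic unit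
  have hin : ∀ q : P.left, u.left q ∈ closure {x0} := by
    intro q
    haveI := hP
    obtain ⟨z, hz, hzg⟩ := Flat.generalizingMap P.hom (ValDim.gen_specializes (P.hom q))
    refine specializes_iff_mem_closure.1 ?_
    have hzu : u.left z = x0 := by
      obtain ⟨z', hz'⟩ : z ∈ Set.range (pullback.fst P.hom gB) := by
        rw [Scheme.Pullback.range_fst]
        exact ⟨IsLocalRing.closedPoint F, (genMap_closedPoint _ (IsFractionRing.injective _ _) _).trans hzg.symm⟩
      have h1 : pullback.fst P.hom gB ≫ u.left = pullback.fst P.hom gB ≫ (1 : P ⟶ H).left :=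
        (GrpSch.bc_map_proj gB u).symm.trans
          ((congrArg (fun m => CommaMorphism.left m ≫ GrpSch.bcProj gB H)
            (hu.trans (Functor.map_one (F := Over.pullback gB) (X := P) (M := H)).symm)).trans
          (GrpSch.bc_map_proj gB 1))
      rw [← hz', ← Scheme.Hom.comp_apply, h1, hone, Scheme.Hom.comp_apply, Scheme.Hom.comp_apply, hz', hzg]
      rfl
    rw [← hzu]
    exact hz.map u.left.continuous
  -- the universal value on `C`
  let w : Q ⟶ C := W (fun a => ρ (e a))
  let wH : Q ⟶ Red.bc t H := w ≫ c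
  obtain ⟨f, hf⟩ := hp ((Over.map t).obj Q) fun a => BC.down t (ρ a ≫ c)
  have hwu : BC.down t wH = f ≫ u := by
    let φ1 : (Q ⟶ C) →* ((Over.map t).obj Q ⟶ H) :=
      (BC.downMulEquiv t Q H).toMonoidHom.comp
        { toFun := fun x => x ≫ c
          map_one' := MonObj.one_comp c
          map_mul' := fun x y => MonObj.mul_comp x y c }
    let φ2 : (P ⟶ H) →* ((Over.map t).obj Q ⟶ H) :=
      { toFun := fun x => f ≫ x
        map_one' := MonObj.comp_one f
        map_mul' := fun x y => MonObj.comp_mul f x y }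
    show φ1 w = φ2 u
    rw [hW φ1, hW φ2]
    exact congrArg W (funext fun a => (hf (e a)).symm)
  obtain ⟨q1, hq1⟩ := hρ (𝟙_ _) (fun _ => 1)
  have hq1w : q1 ≫ w = 1 := by
    let φ3 : (Q ⟶ C) →* (𝟙_ (Over (Spec (CommRingCat.of Ω))) ⟶ C) :=
      { toFun := fun x => q1 ≫ x
        map_one' := MonObj.comp_one q1
        map_mul' := fun x y => MonObj.comp_mul q1 x y }
    show φ3 w = 1
    rw [hW φ3, show φ3 ∘ (fun a => ρ (e a)) = fun _ : idx => (1 : 𝟙_ (Over (Spec (CommRingCat.of Ω))) ⟶ C) from
      funext fun a => hq1 (e a)]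
    have h1 := hW (1 : (𝟙_ (Over (Spec (CommRingCat.of Ω))) ⟶ C) →* (𝟙_ (Over (Spec (CommRingCat.of Ω))) ⟶ C))
      (fun _ => 1)
    exact h1.symm.trans rfl
  let A : Set H.left := Set.range (BC.down t wH).left
  have hQpre : _root_.IsPreconnected A := by
    haveI : ConnectedSpace ↥((Over.map t).obj Q).left := hQc
    exact isPreconnected_range (BC.down t wH).left.continuous
  have hAs : A ⊆ H.hom.base ⁻¹' {s0} := by
    rintro _ ⟨q, rfl⟩
    show H.hom ((BC.down t wH).left q) = s0
    rw [← Scheme.Hom.comp_apply, Over.w]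
    exact congrArg t (Subsingleton.elim (α := PrimeSpectrum Ω) _ _)
  have hAc : A ⊆ closure {x0} := by
    rintro _ ⟨q, rfl⟩
    rw [hwu, Over.comp_left, Scheme.Hom.comp_apply]
    exact hin _
  have honly : ∀ z, x0 ⤳ z → H.hom z = ValDim.gen V → z = x0 := by
    intro z hz hzg
    -- the unit of the generic fibre is a closed point
    let o : 𝟙_ (Over (Spec (CommRingCat.of F))) ⟶ Red.bc gB H := 1
    haveI : IsSeparated (Red.bc gB H).hom := by
      haveI : LocallyOfFiniteType (Red.bc gB H).hom :=
        GrpSch.bc_hom_of (P := @LocallyOfFiniteType) _ H inferInstance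
      exact GrpSch.isSeparated_of_field _
    haveI : IsClosedImmersion (o.left ≫ (Red.bc gB H).hom) := by
      rw [Over.w o]; exact inferInstanceAs (IsClosedImmersion (𝟙 _))
    haveI : IsClosedImmersion o.left := IsClosedImmersion.of_comp o.left (Red.bc gB H).hom
    have hcl : IsClosed (Set.range o.left) := o.left.isClosedEmbedding.isClosed_range
    haveI : IsPreimmersion gB := IsPreimmersion.of_isLocalization (nonZeroDivisors V)
    haveI : IsPreimmersion (pullback.fst H.hom gB) :=
      MorphismProperty.pullback_fst (P := @IsPreimmersion) _ _ ‹_›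
    have hmem : ∀ y : H.left, H.hom y = ValDim.gen V → y ∈ Set.range (pullback.fst H.hom gB) := fun y hy => by
      rw [Scheme.Pullback.range_fst]
      exact ⟨IsLocalRing.closedPoint F, (genMap_closedPoint _ (IsFractionRing.injective _ _) _).trans hy.symm⟩
    obtain ⟨z', rfl⟩ := hmem z hzg
    obtain ⟨o', ho'⟩ : ∃ o' : ↥(Red.bc gB H).left, o' ∈ Set.range o.left ∧ pullback.fst H.hom gB o' = x0 := by
      refine ⟨o.left (IsLocalRing.closedPoint F), ⟨_, rfl⟩, ?_⟩
      have h1 : o.left ≫ pullback.fst H.hom gB = gB ≫ one.left := by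
        have e1 : BC.down gB o = 1 := BC.down_one
        have e2 : (BC.down gB o).left = (1 : (Over.map gB).obj (𝟙_ _) ⟶ H).left := by rw [e1]
        rw [BC.down_left] at e2
        refine e2.trans ?_
        rw [show (1 : (Over.map gB).obj (𝟙_ _) ⟶ H) = toUnit _ ≫ one from (MonObj.comp_one _).symm, Over.comp_left]
        congr 1
      show (o.left ≫ pullback.fst H.hom gB) (IsLocalRing.closedPoint F) = x0
      rw [h1]
      exact congrArg _ (genMap_closedPoint _ (IsFractionRing.injective _ _) _)
    have hsp : o' ⤳ z' := by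
      rw [← (pullback.fst H.hom gB).isEmbedding.isInducing.specializes_iff, ho'.2]
      exact hz
    obtain ⟨a, ha⟩ := hsp.mem_closed hcl ho'.1
    obtain ⟨b, hb⟩ := ho'.1
    rw [← ho'.2, ← hb, ← ha]
    exact congrArg _ (congrArg _ (Subsingleton.elim (α := PrimeSpectrum F) a b))
  have hAsub := ValDim.subsingleton_of_preconnected H.hom x0 (hsec _) honly s0 A hQpre hAs hAc
  -- all points of the image are the unit
  let z1 : ↥(Red.bc t H).left := wH.left (q1.left (IsLocalRing.closedPoint Ω))
  haveI : LocallyOfFiniteType (Red.bc t H).hom := GrpSch.bc_hom_of (P := @LocallyOfFiniteType) _ H inferInstance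
  haveI : IsSeparated (Red.bc t H).hom := GrpSch.isSeparated_of_field _
  let E := (Over.pullback t).map one
  have hsrc : Subsingleton ↥(Red.bc t (𝟙_ (Over (Spec (CommRingCat.of V))))).left := by
    haveI : IsIso (pullback.snd (𝟙_ (Over (Spec (CommRingCat.of V)))).hom t) :=
      inferInstanceAs (IsIso (pullback.snd (𝟙 _) t))
    haveI : Subsingleton ↥(Spec (CommRingCat.of Ω)) := inferInstanceAs (Subsingleton (PrimeSpectrum Ω))
    exact (Scheme.homeoOfIso (asIso (pullback.snd (𝟙_ (Over (Spec (CommRingCat.of V)))).hom t))).injective.subsingleton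
  have hrange : Set.range E.left = GrpSch.bcProj t H ⁻¹' Set.range one.left := by
    have sq := GrpSch.isPullback_bc_map t one
    rw [← sq.isoPullback_hom_fst, Scheme.Hom.comp_base, TopCat.coe_comp, Set.range_comp,
      Set.range_eq_univ.2 sq.isoPullback.hom.surjective, Set.image_univ, Scheme.Pullback.range_fst]
  have hunit : ∀ q : Q.left, wH.left q = z1 := by
    intro q
    have h1 : ∀ q', GrpSch.bcProj t H (wH.left q') = (BC.down t wH).left q' := fun q' => by
      rw [BC.down_left, Scheme.Hom.comp_apply]; rfl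
    have hz1 : z1 ∈ Set.range E.left := by
      rw [hrange]
      have e1 : (BC.down t (q1 ≫ wH)) = 1 := by
        rw [← Category.assoc, hq1w, MonObj.one_comp c, BC.down_one]
      have e2 : (q1.left ≫ wH.left) ≫ GrpSch.bcProj t H =
          (toUnit ((Over.map t).obj (𝟙_ (Over (Spec (CommRingCat.of Ω)))))).left ≫ one.left := by
        rw [← Over.comp_left, ← Over.comp_left]
        refine (BC.down_left (q1 ≫ wH)).symm.trans ?_
        rw [e1, show (1 : (Over.map t).obj (𝟙_ _) ⟶ H) = toUnit _ ≫ one from (MonObj.comp_one _).symm]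
      let p : ↥(𝟙_ (Over (Spec (CommRingCat.of Ω)))).left :=
        (IsLocalRing.closedPoint Ω : ↥(Spec (CommRingCat.of Ω)))
      refine ⟨(toUnit ((Over.map t).obj (𝟙_ (Over (Spec (CommRingCat.of Ω)))))).left p, ?_⟩
      exact congrArg (fun h => h p) e2.symm
    have hq : wH.left q ∈ Set.range E.left := by
      rw [hrange]
      obtain ⟨a, ha⟩ : GrpSch.bcProj t H z1 ∈ Set.range one.left := by
        have := hrange.le hz1
        exact this
      refine ⟨a, ?_⟩
      rw [ha, h1, h1]
      exact (hAsub ⟨q, rfl⟩ ⟨q1.left (IsLocalRing.closedPoint Ω), rfl⟩).symm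
    obtain ⟨a, ha⟩ := hq
    obtain ⟨b, hb⟩ := hz1
    rw [← ha, ← hb, @Subsingleton.elim _ hsrc a b]
  have hw1 : wH = 1 := by
    haveI : LocallyOfFiniteType (wH.left ≫ (Red.bc t H).hom) := by rw [Over.w]; infer_instance
    refine Over.OverMorphism.ext (ext_of_apply_eq (Red.bc t H).hom Set.univ isClosed_univ.isLocallyClosed
      dense_univ (fun q _ _ => ?_) (by rw [Over.w, Over.w]))
    rw [hunit q]
    show z1 = _
    have e1 : q1 ≫ wH = q1 ≫ 1 := by rw [← Category.assoc, hq1w, MonObj.one_comp c, MonObj.comp_one]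
    have e2 : z1 = (1 : Q ⟶ Red.bc t H).left (q1.left (IsLocalRing.closedPoint Ω)) := by
      show (q1 ≫ wH).left (IsLocalRing.closedPoint Ω) = (q1 ≫ 1).left (IsLocalRing.closedPoint Ω)
      rw [e1]
    rw [e2, show (1 : Q ⟶ Red.bc t H) = toUnit Q ≫ (1 : 𝟙_ _ ⟶ Red.bc t H) from (MonObj.comp_one _).symm]
    simp only [Over.comp_left, Scheme.Hom.comp_apply]
    exact congrArg _ (Subsingleton.elim (α := PrimeSpectrum Ω) _ _)
  -- from the universal tuple to all tuples
  obtain ⟨f', hf'⟩ := hρ X fun a => v (e.symm a)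
  let φ4 : (Q ⟶ C) →* (X ⟶ C) :=
    { toFun := fun x => f' ≫ x
      map_one' := MonObj.comp_one f'
      map_mul' := fun x y => MonObj.comp_mul f' x y }
  have h1 := hW φ4 (fun a => ρ (e a))
  rw [show φ4 ∘ (fun a => ρ (e a)) = v from funext fun a => (hf' (e a)).trans (by rw [Equiv.symm_apply_apply])] at h1
  rw [← h1, ← cancel_mono c, MonObj.one_comp c]
  show (f' ≫ w) ≫ c = 1
  rw [Category.assoc, show w ≫ c = 1 from hw1, MonObj.comp_one]

/-- A smooth connected subgroup of full dimension. -/
theorem exists_smooth_connected (HΩ : Over (Spec (CommRingCat.of Ω))) [GrpObj HΩ] [LocallyOfFiniteType HΩ.hom]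
    [QuasiCompact HΩ.hom] :
    ∃ (C : Over (Spec (CommRingCat.of Ω))) (_ : GrpObj C) (c : C ⟶ HΩ), IsMonHom c ∧ IsClosedImmersion c.left ∧
      Smooth C.hom ∧ ConnectedSpace C.left ∧ topologicalKrullDim ↥HΩ.left ≤ topologicalKrullDim ↥C.left := by
  obtain ⟨C, _, c, hcm, hco, hcc, hcn, hrange⟩ := IsogLaw.exists_component HΩ
  haveI := hcm; haveI := hco; haveI := hcc; haveI := hcn
  haveI : LocallyOfFiniteType C.hom := by rw [← Over.w c]; infer_instance
  haveI : QuasiCompact C.hom := by rw [← Over.w c]; infer_instance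
  obtain ⟨R, _, r, hrm, hrc, hrs, hrr⟩ := GrpQ.RedSubgroup.exists_reduced_subgroup C
  haveI := hrm; haveI := hrc; haveI := hrs; haveI := hrr
  haveI : LocallyOfFiniteType R.hom := by rw [← Over.w r]; infer_instance
  haveI : GrpObj (Over.mk R.hom) := inferInstanceAs (GrpObj R)
  haveI : Smooth R.hom := Groth.Agent.H63.GrpSmooth.smooth_of_nonempty R
    (R.hom.dense_smoothLocus_of_perfectField.nonempty_iff.2 ⟨η[R].left (IsLocalRing.closedPoint Ω)⟩)
  let h := r.left.isClosedEmbedding.isEmbedding.toHomeomorphOfSurjective r.left.surjective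
  haveI : ConnectedSpace R.left := h.symm.surjective.connectedSpace h.symm.continuous
  refine ⟨R, inferInstance, r ≫ c, inferInstance, by rw [Over.comp_left]; infer_instance, inferInstance,
    inferInstance, ?_⟩
  refine (SemiAbIsog.CompDim.dim_le_component HΩ).trans (le_of_eq ?_)
  rw [← hrange, IsHomeomorph.topologicalKrullDim_eq _ h.isHomeomorph,
    IsHomeomorph.topologicalKrullDim_eq _ c.left.isClosedEmbedding.isEmbedding.toHomeomorph.isHomeomorph]

end Groth.Agent.Lib.SpecSub.ValSub
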