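import Groth.Agent.Lib.SpecSub.Place
import Groth.Agent.Lib.SpecSub.ValSub

/-!
# Specialisation of subgroups of geometric fibres
-/

set_option autoImplicit false
set_option linter.style.haveILetI false
set_option backward.isDefEq.respectTransparency false

universe u

open CategoryTheory CategoryTheory.Limits MonoidalCategory CartesianMonoidalCategory MonObj GrpObj AlgebraicGeometry
open Groth.Agent.Lib Groth.Agent.Lib.RedPts Groth.Agent.Lib.SmWeil
open scoped commutatorElement

namespace Groth.Agent.Lib.SpecSub.Geometric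

/-- A specialisation is realised by a valuation ring between geometric points. -/
theorem exists_valuationSubring {S : Scheme.{u}} {s s' : S} (h : s ⤳ s') :
    ∃ (V : ValuationSubring (AlgebraicClosure (S.residueField s)))
      (π : V →+* AlgebraicClosure (S.residueField s')) (g : Spec (CommRingCat.of V) ⟶ S),
      Spec.map (CommRingCat.ofHom V.subtype) ≫ g = Red.geomPt s ∧
        Spec.map (CommRingCat.ofHom π) ≫ g = Red.geomPt s' := by
  let φ : S.presheaf.stalk s' ⟶ CommRingCat.of (AlgebraicClosure (S.residueField s)) :=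
    S.presheaf.stalkSpecializes h ≫ S.residue s ≫
      CommRingCat.ofHom (algebraMap (S.residueField s) (AlgebraicClosure (S.residueField s)))
  let ψ : S.presheaf.stalk s' ⟶ CommRingCat.of (AlgebraicClosure (S.residueField s')) :=
    S.residue s' ≫ CommRingCat.ofHom (algebraMap (S.residueField s') (AlgebraicClosure (S.residueField s')))
  have hker : RingHom.ker φ.hom ≤ RingHom.ker ψ.hom := by
    intro x hx
    have hx' : x ∈ IsLocalRing.maximalIdeal (S.presheaf.stalk s') :=
      IsLocalRing.le_maximalIdeal (RingHom.ker_ne_top φ.hom) hx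
    show (algebraMap (S.residueField s') (AlgebraicClosure (S.residueField s'))) ((S.residue s').hom x) = 0
    rw [(IsLocalRing.residue_eq_zero_iff x).2 hx' |> fun e => (show (S.residue s').hom x = 0 from e), map_zero]
  obtain ⟨V, π, a, ha, hπ, -⟩ := Place.exists_valuationSubring_hom φ.hom ψ.hom hker
  refine ⟨V, π, Spec.map (CommRingCat.ofHom a) ≫ S.fromSpecStalk s', ?_, ?_⟩
  · rw [← Spec.map_comp_assoc, ← CommRingCat.ofHom_comp, ha]
    show Spec.map (S.presheaf.stalkSpecializes h ≫ S.residue s ≫ _) ≫ S.fromSpecStalk s' = _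
    rw [Spec.map_comp, Spec.map_comp, Category.assoc, Category.assoc,
      Scheme.SpecMap_stalkSpecializes_fromSpecStalk h]
    rfl
  · rw [← Spec.map_comp_assoc, ← CommRingCat.ofHom_comp, hπ]
    show Spec.map (S.residue s' ≫ _) ≫ S.fromSpecStalk s' = _
    rw [Spec.map_comp, Category.assoc]
    rfl

/-- `C` satisfies every law of `H`. -/
def LawsLe {S S' : Scheme.{u}} (C : Over S') [GrpObj C] (H : Over S) [GrpObj H] : Prop :=
  ∀ (idx : Type) [Finite idx] (W : ∀ {M : Type u} [Group M], (idx → M) → M),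
    (∀ {M M' : Type u} [Group M] [Group M'] (φ : M →* M') (v : idx → M), φ (W v) = W (φ ∘ v)) →
    (∀ (X : Over S) (v : idx → (X ⟶ H)), W v = 1) → ∀ (X : Over S') (v : idx → (X ⟶ C)), W v = 1

theorem LawsLe.comm {S S' : Scheme.{u}} {C : Over S'} [GrpObj C] {H : Over S} [GrpObj H] (h : LawsLe C H)
    [IsCommMonObj H] : IsCommMonObj C := by
  refine isCommMonObj_of_points C fun X x y => commutatorElement_eq_one_iff_mul_comm.1 ?_
  exact h (idx := Fin 2) (fun v => ⁅v 0, v 1⁆) (fun φ v => map_commutatorElement φ _ _)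
    (fun Y v => commutatorElement_eq_one_iff_mul_comm.2 (_root_.mul_comm _ _)) X ![x, y]

theorem LawsLe.solvable {S S' : Scheme.{u}} {C : Over S'} [GrpObj C] {H : Over S} [GrpObj H] (h : LawsLe C H)
    (hH : Red.IsSolvableGrp H) : Red.IsSolvableGrp C := by
  obtain ⟨n, hn⟩ := hH
  exact ⟨n, fun X => (GrpQ.derivedSeries_eq_bot_iff n).2 fun v =>
    h (idx := GrpQ.DerI n) (fun v => GrpQ.derW n v) (fun φ v => GrpQ.map_derW φ n v)
      (fun Y v => (GrpQ.derivedSeries_eq_bot_iff n).1 (hn Y) v) X v⟩

theorem LawsLe.nilpotent {S S' : Scheme.{u}} {C : Over S'} [GrpObj C] {H : Over S} [GrpObj H] (h : LawsLe C H)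
    (hH : AGF.IsNilpotentGrp H) : AGF.IsNilpotentGrp C := by
  obtain ⟨n, hn⟩ := hH
  exact ⟨n, fun X => (GrpQ.upperCentralSeries_eq_top_iff n).2 fun x y =>
    h (idx := Fin (n + 1)) (fun v => GrpQ.comW n (v 0) (Fin.tail v)) (fun φ v => GrpQ.map_comW φ n _ _)
      (fun Y v => (GrpQ.upperCentralSeries_eq_top_iff n).1 (hn Y) _ _) X (Fin.cons x y)⟩

theorem LawsLe.of_mono {S S' : Scheme.{u}} {C : Over S'} [GrpObj C] {H H' : Over S} [GrpObj H] [GrpObj H']
    (h : LawsLe C H) (e : H ⟶ H') [IsMonHom e] [Mono e] : LawsLe C H' := by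
  intro idx _ W hW hH'
  refine h idx W hW fun X v => (cancel_mono e).1 ?_
  rw [MonObj.one_comp e]
  let φ : (X ⟶ H) →* (X ⟶ H') :=
    { toFun := fun x => x ≫ e
      map_one' := MonObj.one_comp e
      map_mul' := fun x y => MonObj.mul_comp x y e }
  exact (hW φ v).trans (hH' X _)

/-- Subgroups of the fibre over a field above the generic point specialise over a valuation ring. -/
theorem exists_specialisation {V : Type u} [CommRing V] [IsDomain V] [ValuationRing V] {F : Type u} [Field F]
    [Algebra V F] [IsFractionRing V F] {Ω : Type u} [Field Ω] [IsAlgClosed Ω] (π : V →+* Ω)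
    {S : Scheme.{u}} (G : Over S) [GrpObj G] [LocallyOfFiniteType G.hom] [QuasiCompact G.hom]
    (g : Spec (CommRingCat.of V) ⟶ S) {a : Spec (CommRingCat.of F) ⟶ S} {b : Spec (CommRingCat.of Ω) ⟶ S}
    (ha : Spec.map (CommRingCat.ofHom (algebraMap V F)) ≫ g = a) (hb : Spec.map (CommRingCat.ofHom π) ≫ g = b)
    (HK : Over (Spec (CommRingCat.of F))) [GrpObj HK] (i : HK ⟶ Red.bc a G) [IsMonHom i] [IsClosedImmersion i.left] :
    ∃ (C : Over (Spec (CommRingCat.of Ω))) (_ : GrpObj C) (c : C ⟶ Red.bc b G),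
      IsMonHom c ∧ IsClosedImmersion c.left ∧ Smooth C.hom ∧ ConnectedSpace C.left ∧
        topologicalKrullDim ↥HK.left ≤ topologicalKrullDim ↥C.left ∧ LawsLe C HK := by
  let t := Spec.map (CommRingCat.ofHom π)
  let f := Spec.map (CommRingCat.ofHom (algebraMap V F))
  let G' := Red.bc g G
  haveI : LocallyOfFiniteType G'.hom := MorphismProperty.pullback_snd (P := @LocallyOfFiniteType) _ _ ‹_›
  haveI : QuasiCompact G'.hom := MorphismProperty.pullback_snd (P := @QuasiCompact) _ _ ‹_›
  haveI := CartanDescent.isMonHom_compIso f g ha G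
  let κ := (CartanDescent.compIso f g ha G).symm
  haveI : IsMonHom κ.hom := isMonHom_inv (CartanDescent.compIso f g ha G)
  haveI : IsIso κ.hom.left := ((Over.forget _).mapIso κ).isIso_hom
  let i' : HK ⟶ Red.bc f G' := i ≫ κ.hom
  haveI : IsClosedImmersion i'.left := by
    show IsClosedImmersion (i ≫ κ.hom).left
    rw [Over.comp_left]; infer_instance
  obtain ⟨H, _, j, e, hjm, hjc, hem, hHf, hHlft, hHqc, -, -⟩ := ValSub.exists_closure G' HK i'
  haveI := hjm; haveI := hjc; haveI := hem; haveI := hHf; haveI := hHlft; haveI := hHqc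
  haveI : LocallyOfFiniteType (Red.bc t H).hom := MorphismProperty.pullback_snd (P := @LocallyOfFiniteType) _ _ hHlft
  haveI : QuasiCompact (Red.bc t H).hom := MorphismProperty.pullback_snd (P := @QuasiCompact) _ _ hHqc
  obtain ⟨C, _, c, hcm, hcc, hCs, hCc, hCd⟩ := ValSub.exists_smooth_connected (Red.bc t H)
  haveI := hcm; haveI := hcc; haveI := hCs; haveI := hCc
  haveI := CartanDescent.isMonHom_compIso t g hb G
  haveI : IsIso (CartanDescent.compIso t g hb G).hom.left :=
    ((Over.forget _).mapIso (CartanDescent.compIso t g hb G)).isIso_hom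
  haveI : IsClosedImmersion ((Over.pullback t).map j).left := GrpSch.bc_map_left_of (P := @IsClosedImmersion) t j hjc
  haveI : Mono c := Over.mono_of_mono_left c
  refine ⟨C, inferInstance, c ≫ (Over.pullback t).map j ≫ (CartanDescent.compIso t g hb G).hom, inferInstance,
    by rw [Over.comp_left, Over.comp_left]; infer_instance, hCs, hCc, ?_, ?_⟩
  · haveI : IsIso e.hom.left := ((Over.forget _).mapIso e).isIso_hom
    rw [IsHomeomorph.topologicalKrullDim_eq _ (Scheme.homeoOfIso (asIso e.hom.left)).isHomeomorph,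
      ← ValSub.dim_special_eq π H]
    exact hCd
  · haveI : IsMonHom e.inv := isMonHom_inv e
    refine LawsLe.of_mono (C := C) (H := Red.bc f H) ?_ e.inv
    intro idx _ W hW hgen X v
    exact ValSub.law_special π H C c W hW hgen X v

/-- Subgroups of a geometric fibre specialise. -/
theorem exists_specialisation_geomFibre {S : Scheme.{u}} (G : Over S) [GrpObj G] [LocallyOfFiniteType G.hom]
    [QuasiCompact G.hom] {s s' : S} (h : s ⤳ s')
    (HK : Over (Spec (CommRingCat.of (AlgebraicClosure (S.residueField s))))) [GrpObj HK]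
    (i : HK ⟶ Red.geomFibre s G) [IsMonHom i] [IsClosedImmersion i.left] :
    ∃ (C : Over (Spec (CommRingCat.of (AlgebraicClosure (S.residueField s'))))) (_ : GrpObj C)
      (c : C ⟶ Red.geomFibre s' G), IsMonHom c ∧ IsClosedImmersion c.left ∧ Smooth C.hom ∧ ConnectedSpace C.left ∧
        topologicalKrullDim ↥HK.left ≤ topologicalKrullDim ↥C.left ∧ LawsLe C HK := by
  obtain ⟨V, π, g, h1, h2⟩ := exists_valuationSubring h
  exact exists_specialisation π G g h1 h2 HK i

/-- Base change along the identity. -/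
noncomputable def idIso {S : Scheme.{u}} (G : Over S) : Red.bc (𝟙 S) G ≅ G :=
  Over.isoMk (asIso (pullback.fst G.hom (𝟙 S))) (by
    show pullback.fst G.hom (𝟙 S) ≫ G.hom = pullback.snd G.hom (𝟙 S)
    rw [pullback.condition, Category.comp_id])

theorem isMonHom_idIso {S : Scheme.{u}} (G : Over S) [GrpObj G] : IsMonHom (idIso G).hom := by
  have key : ∀ {T : Over S} (x : T ⟶ Red.bc (𝟙 S) G),
      x ≫ (idIso G).hom = (Over.isoMk (Iso.refl T.left) (by simp) : T ≅ (Over.map (𝟙 S)).obj T).hom ≫ BC.down (𝟙 S) x :=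
    fun x => by
      apply Over.OverMorphism.ext
      simp [idIso, BC.down_left]
  exact H87.HomDS.isMonHom_of_points _ fun T x y => by rw [key, key, key, BC.down_mul, MonObj.comp_mul]

end Groth.Agent.Lib.SpecSub.Geometric
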