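import Mathlib.RingTheory.Valuation.LocalSubring
import Mathlib.FieldTheory.IsAlgClosed.Basic
import Mathlib.RingTheory.PrincipalIdealDomain
import Mathlib.RingTheory.Polynomial.Basic

/-!
# Extension of a place to a valuation ring with values in an algebraically closed field
-/

set_option autoImplicit false

universe u

open IsLocalRing Polynomial

namespace Groth.Agent.Lib.SpecSub.Place

variable {F Ω : Type u} [Field F] [Field Ω]

/-- A subring of `F × Ω` is a partial place if it is the graph of a map. -/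
def IsGraph (G : Subring (F × Ω)) : Prop := ∀ w, ((0 : F), w) ∈ G → w = 0

variable [IsAlgClosed Ω]

theorem exists_maximal (G₀ : Subring (F × Ω)) (h₀ : IsGraph G₀) :
    ∃ G, G₀ ≤ G ∧ IsGraph G ∧ ∀ G', G ≤ G' → IsGraph G' → G' = G := by
  obtain ⟨G, hG, hmax⟩ := zorn_le_nonempty₀ {G : Subring (F × Ω) | IsGraph G} (fun c hc hchain y hy => by
    haveI : Nonempty c := ⟨⟨y, hy⟩⟩
    refine ⟨⨆ i : c, i.1, fun w hw => ?_, fun z hz => le_iSup (fun i : c => i.1) ⟨z, hz⟩⟩
    obtain ⟨i, hi⟩ := (Subring.mem_iSup_of_directed hchain.directed).mp hw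
    exact hc i.2 w hi) G₀ h₀
  exact ⟨G, hG, hmax.1, fun G' hle hG' => le_antisymm (hmax.2 hG' hle) hle⟩

theorem inv_mem {G : Subring (F × Ω)} (hG : IsGraph G) (hmax : ∀ G', G ≤ G' → IsGraph G' → G' = G)
    {p : F × Ω} (hp : p ∈ G) (hw : p.2 ≠ 0) : (p.1⁻¹, p.2⁻¹) ∈ G := by
  have hb : p.1 ≠ 0 := fun h => hw (hG p.2 (by rw [← h]; exact hp))
  let G' : Subring (F × Ω) :=
    { carrier := {e | ∃ n : ℕ, p ^ n * e ∈ G}
      one_mem' := ⟨0, by simpa using G.one_mem⟩
      mul_mem' := by
        rintro a b ⟨n, hn⟩ ⟨m, hm⟩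
        exact ⟨n + m, by rw [pow_add, mul_mul_mul_comm]; exact G.mul_mem hn hm⟩
      zero_mem' := ⟨0, by simp [G.zero_mem]⟩
      add_mem' := by
        rintro a b ⟨n, hn⟩ ⟨m, hm⟩
        refine ⟨n + m, ?_⟩
        have : p ^ (n + m) * (a + b) = p ^ m * (p ^ n * a) + p ^ n * (p ^ m * b) := by ring
        rw [this]
        exact G.add_mem (G.mul_mem (pow_mem hp m) hn) (G.mul_mem (pow_mem hp n) hm)
      neg_mem' := by
        rintro a ⟨n, hn⟩
        exact ⟨n, by rw [mul_neg]; exact G.neg_mem hn⟩ }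
  have e := hmax G' (fun a ha => ⟨0, by simpa using ha⟩) (fun w ⟨n, hn⟩ => by
    have h1 := hG (p.2 ^ n * w) (by
      have : p ^ n * ((0 : F), w) = (0, p.2 ^ n * w) := Prod.ext (by simp) (by simp)
      rw [← this]; exact hn)
    exact (mul_eq_zero.1 h1).resolve_left (pow_ne_zero n hw))
  rw [← e]
  refine ⟨1, ?_⟩
  have : p ^ 1 * (p.1⁻¹, p.2⁻¹) = 1 :=
    Prod.ext (by simp [mul_inv_cancel₀ hb]) (by simp [mul_inv_cancel₀ hw])
  rw [this]
  exact G.one_mem

/-- A ring map to an algebraically closed field extends from a subring of a field to a valuation ring. -/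
theorem exists_valuationSubring_hom {A : Type u} [CommRing A] (φ : A →+* F) (ψ : A →+* Ω)
    (h : RingHom.ker φ ≤ RingHom.ker ψ) :
    ∃ (V : ValuationSubring F) (π : V →+* Ω) (a : A →+* V),
      V.subtype.comp a = φ ∧ π.comp a = ψ ∧ IsLocalHom π := by
  obtain ⟨G, hle, hG, hmax⟩ := exists_maximal (φ.prod ψ).range (by
    rintro w ⟨a, ha⟩
    have h1 : φ a = 0 := congrArg Prod.fst ha
    have h2 : ψ a = w := congrArg Prod.snd ha
    rw [← h2]; exact h h1)
  let fstG : G →+* F := (RingHom.fst F Ω).comp G.subtype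
  let sndG : G →+* Ω := (RingHom.snd F Ω).comp G.subtype
  have hinj : Function.Injective fstG := (injective_iff_map_eq_zero fstG).2 fun ⟨p, hp⟩ h0 => by
    have h1 : p.1 = 0 := h0
    exact Subtype.ext (Prod.ext h1 (hG p.2 (by rw [← h1]; exact hp)))
  have hinv : ∀ c : G, sndG c ≠ 0 → ∃ d : G, c * d = 1 := fun c hc =>
    ⟨⟨_, inv_mem hG hmax c.2 hc⟩, Subtype.ext (Prod.ext
      (mul_inv_cancel₀ (fun h0 => hc (hG c.1.2 (by rw [← show c.1.1 = 0 from h0]; exact c.2))))
      (mul_inv_cancel₀ hc))⟩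
  let B := fstG.range
  let e : G ≃+* B := RingEquiv.ofBijective fstG.rangeRestrict
    ⟨fun a b hab => hinj (congrArg Subtype.val hab), fstG.rangeRestrict_surjective⟩
  haveI : IsLocalRing G := IsLocalRing.of_isUnit_or_isUnit_one_sub_self fun c => by
    by_cases hc : sndG c = 0
    · obtain ⟨d, hd⟩ := hinv (1 - c) (by rw [map_sub, map_one, hc, sub_zero]; exact one_ne_zero)
      exact Or.inr (IsUnit.of_mul_eq_one d hd)
    · obtain ⟨d, hd⟩ := hinv c hc
      exact Or.inl (IsUnit.of_mul_eq_one d hd)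
  haveI : IsLocalRing B := e.isLocalRing
  obtain ⟨V, hV⟩ := (LocalSubring.mk B).exists_le_valuationSubring
  -- units of `G` among elements which become units of `V`
  have hmV : ∀ c : G, sndG c = 0 → (⟨fstG c, hV.1 ⟨c, rfl⟩⟩ : V) ∈ maximalIdeal V := fun c hc => by
    rw [IsLocalRing.mem_maximalIdeal, mem_nonunits_iff]
    intro hu
    have h1 : IsUnit (e c) := hV.2.map_nonunit (e c) hu
    have h2 : IsUnit c := by simpa using h1.map e.symm
    exact (h2.map sndG).ne_zero hc
  have hVle : ∀ x ∈ V, x ∈ B := by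
    intro x hxV
    let ev : G[X] →+* F := eval₂RingHom fstG x
    let evV : G[X] →+* V := eval₂RingHom ((Subring.inclusion hV.1).comp fstG.rangeRestrict) ⟨x, hxV⟩
    have hevV : ∀ p, (evV p : F) = ev p := by
      intro p
      have h1 : (V.subtype.comp evV) = ev := by
        refine Polynomial.ringHom_ext (fun c => ?_) ?_
        · simp [ev, evV]; rfl
        · simp [ev, evV]
      exact RingHom.congr_fun h1 p
    let k0 := sndG.range
    have hk0 : ∀ y ∈ k0, y⁻¹ ∈ k0 := by
      rintro _ ⟨c, rfl⟩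
      by_cases hc : sndG c = 0
      · exact ⟨0, by rw [hc, inv_zero, map_zero]⟩
      · obtain ⟨d, hd⟩ := hinv c hc
        exact ⟨d, eq_inv_of_mul_eq_one_left (by rw [← map_mul, mul_comm, hd, map_one])⟩
    let k0' : Subfield Ω := { k0 with inv_mem' := hk0 }
    let r : G →+* k0' := sndG.rangeRestrict
    have hr : Function.Surjective r := sndG.rangeRestrict_surjective
    let J : Ideal k0'[X] := (RingHom.ker ev).map (mapRingHom r)
    have hJ : J ≠ ⊤ := by
      intro hJ
      obtain ⟨p, hp, hp1⟩ := (Ideal.mem_map_iff_of_surjective (mapRingHom r) (Polynomial.map_surjective _ hr)).1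
        (show (1 : k0'[X]) ∈ J from hJ ▸ Submodule.mem_top)
      have h0 : evV p = 0 := Subtype.ext ((hevV p).trans hp)
      have h1 : evV (p - 1) ∈ maximalIdeal V := by
        rw [show evV (p - 1) = ((p - 1).sum fun i c => evV (C c) * evV X ^ i) by
          conv_lhs => rw [(p - 1).as_sum_support_C_mul_X_pow]
          simp [Polynomial.sum, map_sum]]
        refine Ideal.sum_mem _ fun i _ => Ideal.mul_mem_right _ _ ?_
        have hc : sndG ((p - 1).coeff i) = 0 := by
          have h2 : r ((p - 1).coeff i) = 0 := by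
            rw [← coeff_map, ← coe_mapRingHom, map_sub, map_one, hp1, sub_self, coeff_zero]
          exact congrArg Subtype.val h2
        rw [show evV (C ((p - 1).coeff i)) = _ from eval₂_C _ _]
        exact hmV _ hc
      rw [map_sub, h0, map_one, zero_sub, neg_mem_iff] at h1
      exact (maximalIdeal.isMaximal V).ne_top ((Ideal.eq_top_iff_one _).2 h1)
    obtain ⟨ω, hω⟩ : ∃ ω : Ω, ∀ q ∈ J, eval₂ k0'.subtype ω q = 0 := by
      obtain ⟨g, hg⟩ := (IsPrincipalIdealRing.principal J).principal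
      by_cases hg0 : g = 0
      · refine ⟨0, fun q hq => ?_⟩
        rw [hg, hg0, Submodule.span_singleton_eq_bot.2 rfl] at hq
        rw [Submodule.mem_bot] at hq
        rw [hq, eval₂_zero]
      have hgu : ¬ IsUnit g := fun hu => hJ (hg.trans (Ideal.span_singleton_eq_top.2 hu))
      have hdeg : (g.map k0'.subtype).degree ≠ 0 := by
        rw [degree_map]
        exact fun h => hgu (isUnit_iff_degree_eq_zero.2 h)
      obtain ⟨ω, hω⟩ := IsAlgClosed.exists_root _ hdeg
      refine ⟨ω, fun q hq => ?_⟩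
      rw [hg, Submodule.mem_span_singleton] at hq
      obtain ⟨c, rfl⟩ := hq
      rw [smul_eq_mul, eval₂_mul, show eval₂ k0'.subtype ω g = 0 from (eval_map _ _).symm.trans hω, mul_zero]
    let Φ : G[X] →+* F × Ω := eval₂RingHom G.subtype (x, ω)
    have hΦ1 : ∀ p, (Φ p).1 = ev p := fun p => by
      have h1 : (RingHom.fst F Ω).comp Φ = ev :=
        Polynomial.ringHom_ext (fun c => by simp [Φ, ev]; rfl) (by simp [Φ, ev])
      exact RingHom.congr_fun h1 p
    have hΦ2 : ∀ p, (Φ p).2 = eval₂ k0'.subtype ω (p.map r) := fun p => by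
      have h1 : (RingHom.snd F Ω).comp Φ = (eval₂RingHom k0'.subtype ω).comp (mapRingHom r) :=
        Polynomial.ringHom_ext (fun c => by simp [Φ]; rfl) (by simp [Φ])
      exact RingHom.congr_fun h1 p
    have heq := hmax Φ.range (fun a ha => ⟨C ⟨a, ha⟩, by simp [Φ]⟩) (by
      rintro w ⟨p, hp⟩
      have h1 : (Φ p).1 = 0 := by rw [hp]
      have h2 : (Φ p).2 = w := by rw [hp]
      rw [← h2, hΦ2]
      exact hω _ (Ideal.mem_map_of_mem _ (show p ∈ RingHom.ker ev from (hΦ1 p).symm.trans h1)))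
    have hxG : (x, ω) ∈ G := by rw [← heq]; exact ⟨X, by simp [Φ]⟩
    exact ⟨⟨_, hxG⟩, rfl⟩
  let toG : V →+* G := e.symm.toRingHom.comp (V.subtype.codRestrict B fun v => hVle v v.2)
  have htoG : ∀ v : V, fstG (toG v) = v := fun v => by
    show ((e (e.symm (V.subtype.codRestrict B (fun v => hVle v v.2) v)) : B) : F) = _
    rw [e.apply_symm_apply]; rfl
  let aG : A →+* G := (φ.prod ψ).codRestrict G fun a => hle ⟨a, rfl⟩
  refine ⟨V, sndG.comp toG, (Subring.inclusion hV.1).comp (fstG.rangeRestrict.comp aG), rfl, ?_, ⟨fun v hv => ?_⟩⟩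
  · refine RingHom.ext fun a => ?_
    show sndG (toG _) = ψ a
    have h1 : toG ((Subring.inclusion hV.1) (fstG.rangeRestrict (aG a))) = aG a := hinj (htoG _)
    exact (congrArg sndG h1).trans rfl
  · obtain ⟨d, hd⟩ := hinv (toG v) hv.ne_zero
    exact IsUnit.of_mul_eq_one ⟨fstG d, hV.1 ⟨d, rfl⟩⟩ (Subtype.ext (by
      show (v : F) * fstG d = 1
      rw [← htoG v, ← map_mul, hd, map_one]))

end Groth.Agent.Lib.SpecSub.Place
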