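import Groth.Agent.Lib.SpecSub.Dvr
import Groth.Agent.Lib.Regular.Serre
import Groth.Agent.Lib.Regular.Quotient
import Groth.Agent.Lib.Cohen.GenRegInsep
import Mathlib.RingTheory.DiscreteValuationRing.TFAE
import Mathlib.RingTheory.Localization.LocalizationLocalization
import Mathlib.RingTheory.LocalRing.ResidueField.Ideal

/-!
# Specialisation of subgroups over a regular local ring
-/

set_option autoImplicit false
set_option linter.style.haveILetI false
set_option backward.isDefEq.respectTransparency false

universe u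

open CategoryTheory CategoryTheory.Limits MonoidalCategory CartesianMonoidalCategory MonObj GrpObj AlgebraicGeometry
open IsLocalRing

namespace Groth.Agent.Lib.SpecSub

theorem specMap_comp {A B C : Type u} [CommRing A] [CommRing B] [CommRing C] (φ : A →+* B) (ψ : B →+* C)
    (χ : A →+* C) (h : ψ.comp φ = χ) :
    Spec.map (CommRingCat.ofHom ψ) ≫ Spec.map (CommRingCat.ofHom φ) = Spec.map (CommRingCat.ofHom χ) := by
  rw [← Spec.map_comp, ← CommRingCat.ofHom_comp, h]

theorem isIso_specMap {A B : Type u} [CommRing A] [CommRing B] (φ : A →+* B) (h : Function.Bijective φ) :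
    IsIso (Spec.map (CommRingCat.ofHom φ)) := by
  haveI : IsIso (CommRingCat.ofHom φ) := (RingEquiv.ofBijective φ h).toCommRingCatIso.isIso_hom
  infer_instance

/-- The localisation of a regular local ring at a prime generated by one nonzero element is a discrete
valuation ring. -/
theorem isDvr_localization {A : Type u} [CommRing A] [IsDomain A] [IsNoetherianRing A] (x : A) (hx : x ≠ 0)
    [(Ideal.span {x}).IsPrime] : IsDiscreteValuationRing (Localization.AtPrime (Ideal.span {x})) := by
  let AP := Localization.AtPrime (Ideal.span {x})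
  haveI : IsDomain AP := IsLocalization.isDomain_localization (Ideal.primeCompl_le_nonZeroDivisors _)
  haveI : IsNoetherianRing AP := IsLocalization.isNoetherianRing (Ideal.span {x}).primeCompl AP inferInstance
  have hmax : maximalIdeal AP = Ideal.span {algebraMap A AP x} := by
    rw [← IsLocalization.AtPrime.map_eq_maximalIdeal (Ideal.span {x}) AP, Ideal.map_span, Set.image_singleton]
  have hnf : ¬ IsField AP := by
    rw [IsLocalRing.isField_iff_maximalIdeal_eq, hmax, Ideal.span_singleton_eq_bot]
    exact fun h => hx (IsLocalization.injective AP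
      (Ideal.primeCompl_le_nonZeroDivisors (Ideal.span {x})) (h.trans (map_zero _).symm))
  have e := (IsDiscreteValuationRing.TFAE AP hnf).out 4 0
  exact e.1 ⟨⟨algebraMap A AP x, hmax⟩⟩

variable {nrm : Prop} {R : ∀ {S : Scheme.{u}} (H : Over S) [GrpObj H], Prop}

/-- Subgroups of the generic fibre specialise over a regular local ring. -/
theorem hasSub_residue_of_regular (hR : Inherited R) (sep : Prop)
    (hspec : ∀ (A : Type u) [CommRing A] [IsDomain A] [IsDiscreteValuationRing A] (K : Type u) [Field K]
      [Algebra A K] [IsFractionRing A K] (H : Over (Spec (CommRingCat.of A))) [GrpObj H] [Flat H.hom]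
      [LocallyOfFinitePresentation H.hom] [QuasiCompact H.hom], (sep → IsSeparated H.hom) →
      R (Red.bc (Spec.map (CommRingCat.ofHom (algebraMap A K))) H) →
      R (Red.bc (Spec.map (CommRingCat.ofHom (algebraMap A (IsLocalRing.ResidueField A)))) H))
    {d : WithBot ℕ∞} : ∀ (n : ℕ) (A : Type u) [CommRing A] [IsDomain A] [IsRegularLocalRing A],
    (maximalIdeal A).spanFinrank = n → ∀ (K : Type u) [Field K] [Algebra A K] [IsFractionRing A K]
    (G : Over (Spec (CommRingCat.of A))) [GrpObj G] [Flat G.hom] [LocallyOfFinitePresentation G.hom]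
    [QuasiCompact G.hom], (sep → IsSeparated G.hom) →
    HasSub nrm R G (Spec.map (CommRingCat.ofHom (algebraMap A K))) d →
    HasSub nrm R G (Spec.map (CommRingCat.ofHom (algebraMap A (IsLocalRing.ResidueField A)))) d := by
  intro n
  induction n using Nat.strong_induction_on with
  | h n ih =>
  intro A _ _ _ hn K _ _ _ G _ _ _ _ hsep h
  rcases Nat.eq_zero_or_pos n with rfl | hpos
  · have hm : maximalIdeal A = ⊥ :=
      (Submodule.spanFinrank_eq_zero_iff_eq_bot (Ideal.fg_of_isNoetherianRing _)).mp hn
    have hA : IsField A := IsLocalRing.isField_iff_maximalIdeal_eq.2 hm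
    have hu : ∀ y : nonZeroDivisors A, IsUnit (algebraMap A (IsLocalRing.ResidueField A) y) := fun y =>
      isUnit_iff_ne_zero.mpr fun h0 => nonZeroDivisors.coe_ne_zero y (by
        have h1 : (y : A) ∈ maximalIdeal A := (IsLocalRing.residue_eq_zero_iff _).1 h0
        rwa [hm, Ideal.mem_bot] at h1)
    let θ : K →+* IsLocalRing.ResidueField A := IsLocalization.lift hu
    have hθ : θ.comp (algebraMap A K) = algebraMap A (IsLocalRing.ResidueField A) := IsLocalization.lift_comp hu
    have hbij : Function.Bijective θ := by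
      refine ⟨θ.injective, fun z => ?_⟩
      obtain ⟨a, rfl⟩ := IsLocalRing.residue_surjective z
      exact ⟨algebraMap A K a, RingHom.congr_fun hθ a⟩
    haveI := isIso_specMap θ hbij
    exact hasSub_of_isIso G hR (Spec.map (CommRingCat.ofHom θ)) (specMap_comp _ _ _ hθ) h
  obtain ⟨x, hx, hx2⟩ := Groth.Agent.Lib.Regular.Serre.exists_notMem_sq (R := A) (by omega)
  haveI hA1 : IsRegularLocalRing (A ⧸ Ideal.span {x}) :=
    Groth.Agent.Lib.Cohen.GenRegInsep.quotient_singleton hx hx2
  have hlt : (maximalIdeal (A ⧸ Ideal.span {x})).spanFinrank < n :=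
    hn ▸ Groth.Agent.Lib.Regular.Serre.spanFinrank_quotient_lt hx hx2
  haveI : IsDomain (A ⧸ Ideal.span {x}) := Groth.Agent.Lib.Regular.Quotient.isDomain _
  haveI hP : (Ideal.span {x}).IsPrime := (Ideal.Quotient.isDomain_iff_prime _).1 inferInstance
  have hx0 : x ≠ 0 := fun h => hx2 (h ▸ zero_mem _)
  let P := Ideal.span ({x} : Set A)
  let AP := Localization.AtPrime P
  haveI : IsDiscreteValuationRing AP := isDvr_localization x hx0
  -- the generic fibre over the localisation
  have hu : ∀ y : P.primeCompl, IsUnit (algebraMap A K y) := fun y =>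
    isUnit_iff_ne_zero.mpr fun h0 => nonZeroDivisors.ne_zero (Ideal.primeCompl_le_nonZeroDivisors P y.2)
      ((map_eq_zero_iff _ (IsFractionRing.injective A K)).1 h0)
  letI : Algebra AP K := (IsLocalization.lift (S := AP) hu).toAlgebra
  haveI : IsScalarTower A AP K := IsScalarTower.of_algebraMap_eq fun a =>
    (IsLocalization.lift_eq hu a).symm
  haveI : IsFractionRing AP K := IsFractionRing.isFractionRing_of_isDomain_of_isLocalization P.primeCompl AP K
  let π := Spec.map (CommRingCat.ofHom (algebraMap A AP))
  have h1 : HasSub nrm R (Red.bc π G) (Spec.map (CommRingCat.ofHom (algebraMap AP K))) d :=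
    hasSub_of_comp G (specMap_comp _ _ _ (IsScalarTower.algebraMap_eq A AP K).symm) h
  haveI : Flat (Red.bc π G).hom := MorphismProperty.pullback_snd (P := @Flat) _ _ ‹_›
  haveI : LocallyOfFinitePresentation (Red.bc π G).hom :=
    MorphismProperty.pullback_snd (P := @LocallyOfFinitePresentation) _ _ ‹_›
  haveI : QuasiCompact (Red.bc π G).hom := MorphismProperty.pullback_snd (P := @QuasiCompact) _ _ ‹_›
  have h2 := hasSub_residue_of_dvr hR sep hspec AP K (Red.bc π G)
    (fun hs => MorphismProperty.pullback_snd (P := @IsSeparated) _ _ (hsep hs)) h1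
  have h3 : HasSub nrm R G (Spec.map (CommRingCat.ofHom (algebraMap A P.ResidueField))) d :=
    hasSub_comp G (specMap_comp _ _ _ (IsScalarTower.algebraMap_eq A AP P.ResidueField).symm) h2
  -- continue on the quotient
  let ρ := Spec.map (CommRingCat.ofHom (Ideal.Quotient.mk P))
  have h4 : HasSub nrm R (Red.bc ρ G) (Spec.map (CommRingCat.ofHom (algebraMap (A ⧸ P) P.ResidueField))) d :=
    hasSub_of_comp G (specMap_comp _ _ _ (IsScalarTower.algebraMap_eq A (A ⧸ P) P.ResidueField).symm) h3
  haveI : Flat (Red.bc ρ G).hom := MorphismProperty.pullback_snd (P := @Flat) _ _ ‹_›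
  haveI : LocallyOfFinitePresentation (Red.bc ρ G).hom :=
    MorphismProperty.pullback_snd (P := @LocallyOfFinitePresentation) _ _ ‹_›
  haveI : QuasiCompact (Red.bc ρ G).hom := MorphismProperty.pullback_snd (P := @QuasiCompact) _ _ ‹_›
  have h5 := ih _ hlt (A ⧸ P) rfl P.ResidueField (Red.bc ρ G)
    (fun hs => MorphismProperty.pullback_snd (P := @IsSeparated) _ _ (hsep hs)) h4
  -- the residue fields agree
  haveI : IsLocalHom (Ideal.Quotient.mk P) := IsLocalHom.of_surjective _ Ideal.Quotient.mk_surjective
  let σ : IsLocalRing.ResidueField A →+* IsLocalRing.ResidueField (A ⧸ P) :=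
    IsLocalRing.ResidueField.map (Ideal.Quotient.mk P)
  have hσ : σ.comp (algebraMap A (IsLocalRing.ResidueField A)) =
      (algebraMap (A ⧸ P) (IsLocalRing.ResidueField (A ⧸ P))).comp (Ideal.Quotient.mk P) :=
    IsLocalRing.ResidueField.map_comp_residue _
  have hbij : Function.Bijective σ := by
    refine ⟨σ.injective, fun z => ?_⟩
    obtain ⟨b, rfl⟩ := IsLocalRing.residue_surjective z
    obtain ⟨a, rfl⟩ := Ideal.Quotient.mk_surjective b
    exact ⟨algebraMap A _ a, RingHom.congr_fun hσ a⟩
  haveI := isIso_specMap σ hbij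
  have h6 : HasSub nrm R G (Spec.map (CommRingCat.ofHom
      ((algebraMap (A ⧸ P) (IsLocalRing.ResidueField (A ⧸ P))).comp (Ideal.Quotient.mk P)))) d :=
    hasSub_comp G (specMap_comp _ _ _ rfl) h5
  exact hasSub_of_isIso G hR (inv (Spec.map (CommRingCat.ofHom σ)))
    ((IsIso.inv_comp_eq _).2 (specMap_comp _ _ _ hσ).symm) h6

end Groth.Agent.Lib.SpecSub
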