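import Groth.Agent.Lib.Flat55.FibreDimVal
import Groth.Agent.Lib.FibreDim.Chart
import Groth.Agent.S5329
import Mathlib.AlgebraicGeometry.IdealSheaf.Functorial
import Mathlib.RingTheory.Flat.TorsionFree

/-!
# Fibres over a valuation ring
-/

set_option autoImplicit false
set_option linter.style.haveILetI false
set_option backward.isDefEq.respectTransparency false

universe u

open CategoryTheory CategoryTheory.Limits AlgebraicGeometry TopologicalSpace Topology
open Groth.Agent.Lib

namespace Groth.Agent.Lib.SpecSub.ValDim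

variable {V : Type u} [CommRing V] [IsDomain V]

/-- A scheme over a valuation ring receiving a schematically dominant morphism from a scheme over a field
is flat. -/
theorem flat_of_std [ValuationRing V] {T : Scheme.{u}} (p : T ⟶ Spec (CommRingCat.of V)) {L : Type u} [Field L]
    {W : Scheme.{u}} (q : W ⟶ Spec (CommRingCat.of L)) (d : W ⟶ T)
    [IsSchemeTheoreticallyDominant d] [QuasiCompact d] (φ : V →+* L) (hφ : Function.Injective φ)
    (hd : d ≫ p = q ≫ Spec.map (CommRingCat.ofHom φ)) : Flat p := by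
  rw [HasRingHomProperty.iff_of_source_openCover (P := @Flat) T.affineCover]
  intro i
  let j := T.affineCover.f i
  have hinj : Function.Injective ((d.app j.opensRange).hom) := d.app_injective _
  let c : CommRingCat.of V ⟶ Γ(Spec (CommRingCat.of V), ⊤) := (Scheme.ΓSpecIso _).inv
  let e : CommRingCat.of V ⟶ Γ(T, j.opensRange) := c ≫ p.appLE ⊤ j.opensRange le_top
  have hflat : e.hom.Flat := by
    algebraize [e.hom]
    change Module.Flat V Γ(T, j.opensRange)
    rw [Module.Flat.flat_iff_torsion_eq_bot_of_isBezout, eq_bot_iff]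
    rintro x ⟨⟨r, hr⟩, hrx⟩
    rw [Submodule.mem_bot]
    apply hinj
    rw [map_zero]
    have hu : IsUnit ((d.app j.opensRange).hom (e.hom r)) := by
      have he : e ≫ d.app j.opensRange =
          CommRingCat.ofHom φ ≫ (Scheme.ΓSpecIso (CommRingCat.of L)).inv ≫
            q.appLE ⊤ (d ⁻¹ᵁ j.opensRange) le_top := by
        have h1 : p.appLE ⊤ j.opensRange le_top ≫ d.app j.opensRange =
            (Spec.map (CommRingCat.ofHom φ)).appTop ≫ q.appLE ⊤ (d ⁻¹ᵁ j.opensRange) le_top := by
          rw [Scheme.Hom.app_eq_appLE, Scheme.Hom.appLE_comp_appLE]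
          simp only [hd]
          exact Scheme.Hom.comp_appLE _ _ _ _ _
        rw [Category.assoc, h1, ← Scheme.ΓSpecIso_inv_naturality_assoc]
      rw [← CommRingCat.comp_apply, he]
      exact (isUnit_iff_ne_zero.mpr ((map_ne_zero_iff φ hφ).mpr (nonZeroDivisors.ne_zero hr))).map
        ((Scheme.ΓSpecIso (CommRingCat.of L)).inv ≫
          q.appLE ⊤ (d ⁻¹ᵁ j.opensRange) le_top).hom
    have hz : (d.app j.opensRange).hom (e.hom r) * (d.app j.opensRange).hom x = 0 := by
      rw [← map_mul]
      exact (congrArg _ hrx).trans (map_zero _)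
    exact hu.mul_right_eq_zero.mp hz
  have hc : p.appLE ⊤ j.opensRange le_top = (Scheme.ΓSpecIso _).hom ≫ e := by
    simp [e, c]
  have hj : (j ≫ p).appTop = p.appLE ⊤ j.opensRange le_top ≫ j.appLE j.opensRange ⊤ (by simp) := by
    rw [Scheme.Hom.appLE_comp_appLE]
    rfl
  change ((j ≫ p).appTop).hom.Flat
  rw [hj, hc]
  refine RingHom.Flat.comp ?_ ?_
  · exact RingHom.Flat.comp (RingHom.Flat.of_bijective
      (ConcreteCategory.bijective_of_isIso (Scheme.ΓSpecIso (CommRingCat.of V)).hom)) hflat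
  · have : IsIso (j.appLE j.opensRange ⊤ (by simp)) := by
      rw [Scheme.Hom.appLE]
      have : IsIso (j.app j.opensRange) := Scheme.Hom.isIso_app j _ le_rfl
      have : IsIso ((T.affineCover.X i).presheaf.map
          (homOfLE (show ⊤ ≤ j ⁻¹ᵁ j.opensRange by simp)).op) := by
        have h' : IsIso (homOfLE (show (⊤ : (T.affineCover.X i).Opens) ≤ j ⁻¹ᵁ j.opensRange by simp)) :=
          ⟨homOfLE le_top, rfl, rfl⟩
        infer_instance
      infer_instance
    exact RingHom.Flat.of_bijective
      (ConcreteCategory.bijective_of_isIso (j.appLE j.opensRange ⊤ _))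

/-- The generic point of the base. -/
def gen (V : Type u) [CommRing V] [IsDomain V] : ↥(Spec (CommRingCat.of V)) :=
  (⟨⊥, Ideal.isPrime_bot⟩ : PrimeSpectrum V)

theorem gen_specializes (s : ↥(Spec (CommRingCat.of V))) : gen V ⤳ s :=
  (PrimeSpectrum.le_iff_specializes (⟨⊥, Ideal.isPrime_bot⟩ : PrimeSpectrum V) s).1 bot_le

variable [ValuationRing V] {X : Scheme.{u}} (φ : X ⟶ Spec (CommRingCat.of V)) [LocallyOfFiniteType φ]

/-- If every point has a generization in the generic fibre, no fibre is bigger than the generic one. -/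
theorem dim_fibre_le_generic (hgen : ∀ x : X, ∃ z : X, z ⤳ x ∧ φ z = gen V) (s : ↥(Spec (CommRingCat.of V))) :
    topologicalKrullDim ↥(φ.base ⁻¹' {s}) ≤ topologicalKrullDim ↥(φ.base ⁻¹' {gen V}) := by
  rw [← FibreDim.Basic.topologicalKrullDim_fiber φ s, ← FibreDim.Basic.topologicalKrullDim_fiber φ (gen V)]
  refine FibreDim.Basic.topologicalKrullDim_fiber_le φ fun x _ => ?_
  obtain ⟨w, -, hwx, hmax, hwd⟩ := FibreDim.Chart.exists_maximal_generization φ x
  obtain ⟨z, hzw, hz⟩ := hgen w
  rw [← hwd]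
  exact (Flat55.FibreDimVal.fibreDimAt_le_of_specializes φ w z hzw fun t ht he => hmax t (he.trans hwx) ht).trans
    (FibreDim.Basic.fibreDimAt_le_topologicalKrullDim φ hz)

theorem hgen_of_flat [Flat φ] (x : X) : ∃ z : X, z ⤳ x ∧ φ z = gen V :=
  Flat.generalizingMap φ (gen_specializes (φ x))

/-- A preconnected set in a fibre, inside the closure of a point which is closed in the generic fibre, is a
single point. -/
theorem subsingleton_of_preconnected [QuasiCompact φ] (x₀ : X) (hx₀ : φ x₀ = gen V)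
    (honly : ∀ z, x₀ ⤳ z → φ z = gen V → z = x₀) (s : ↥(Spec (CommRingCat.of V))) (A : Set X)
    (hA : _root_.IsPreconnected A) (hAs : A ⊆ φ.base ⁻¹' {s}) (hAc : A ⊆ closure {x₀}) : A.Subsingleton := by
  let Zc : Closeds X := ⟨closure {x₀}, isClosed_closure⟩
  let I := Scheme.IdealSheafData.vanishingIdeal Zc
  let ι₀ := I.subschemeι
  have hrange : Set.range ι₀ = closure {x₀} := by
    rw [Scheme.IdealSheafData.range_subschemeι, Scheme.IdealSheafData.coe_support_vanishingIdeal]
    rfl
  let ψ := ι₀ ≫ φ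
  obtain ⟨z₀, hz₀⟩ : x₀ ∈ Set.range ι₀ := hrange ▸ subset_closure (Set.mem_singleton x₀)
  have hg : ∀ z : I.subscheme, z₀ ⤳ z := fun z => by
    rw [← ι₀.isClosedEmbedding.isInducing.specializes_iff, hz₀, specializes_iff_mem_closure, ← hrange]
    exact ⟨z, rfl⟩
  have hψz : ψ z₀ = gen V := by
    show φ (ι₀ z₀) = _
    rw [hz₀]; exact hx₀
  have hd := dim_fibre_le_generic ψ (fun z => ⟨z₀, hg z, hψz⟩) s
  have hsub : Subsingleton ↥(ψ.base ⁻¹' {gen V}) := ⟨fun a b => by
    have key : ∀ c : ↥(ψ.base ⁻¹' {gen V}), (c : I.subscheme) = z₀ := fun c => by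
      apply ι₀.isClosedEmbedding.injective
      rw [hz₀]
      exact honly _ (hz₀ ▸ (hg c).map ι₀.continuous) c.2
    exact Subtype.ext ((key a).trans (key b).symm)⟩
  have hd0 : topologicalKrullDim ↥(ψ.fiber s) ≤ 0 := by
    rw [FibreDim.Basic.topologicalKrullDim_fiber ψ s]
    refine hd.trans ?_
    exact Order.krullDim_nonpos_iff_forall_isMax.2 fun a b hb => by
      obtain ⟨x, hx⟩ := a.isIrreducible.nonempty
      intro y _
      rwa [Subsingleton.elim y x]
  haveI : IsLocallyNoetherian (ψ.fiber s) :=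
    LocallyOfFiniteType.isLocallyNoetherian (ψ.fiberToSpecResidueField s)
  haveI : QuasiCompact (ψ.fiberToSpecResidueField s) :=
    MorphismProperty.pullback_snd (P := @QuasiCompact) _ _ (inferInstanceAs (QuasiCompact (ι₀ ≫ φ)))
  haveI : CompactSpace ↥(ψ.fiber s) := QuasiCompact.compactSpace_of_compactSpace (ψ.fiberToSpecResidueField s)
  haveI : IsNoetherian (ψ.fiber s) := ⟨⟩
  haveI : T1Space ↥(ψ.fiber s) := ⟨fun z => by
    refine isClosed_of_closure_subset fun y hy => ?_
    let cy : IrreducibleCloseds ↥(ψ.fiber s) := ⟨closure {y}, isIrreducible_singleton.closure, isClosed_closure⟩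
    let cz : IrreducibleCloseds ↥(ψ.fiber s) := ⟨closure {z}, isIrreducible_singleton.closure, isClosed_closure⟩
    have hle : cy ≤ cz := closure_minimal (Set.singleton_subset_iff.2 hy) isClosed_closure
    have hge : cz ≤ cy := (Order.krullDim_nonpos_iff_forall_isMax.1 hd0 cy) hle
    have h1 : y ⤳ z := specializes_iff_mem_closure.2 (hge (subset_closure (Set.mem_singleton z)))
    exact Set.mem_singleton_iff.2 ((h1.antisymm (specializes_iff_mem_closure.2 hy)).eq)⟩
  haveI : Finite ↥(ψ.fiber s) := by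
    refine Set.finite_univ_iff.1 ?_
    rw [← sUnion_irreducibleComponents]
    refine TopologicalSpace.NoetherianSpace.finite_irreducibleComponents.sUnion fun Z hZ => ?_
    obtain ⟨g, hg'⟩ := QuasiSober.sober hZ.1 (isClosed_of_mem_irreducibleComponents Z hZ)
    rw [← hg'.def, closure_singleton]
    exact Set.finite_singleton g
  haveI : DiscreteTopology ↥(ψ.fiber s) := inferInstance
  let m : ψ.fiber s → X := fun z => ι₀ ((ψ.fiberι s) z)
  have hm : Topology.IsEmbedding m :=
    ι₀.isClosedEmbedding.isEmbedding.comp (ψ.fiberι s).isEmbedding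
  have hAm : A ⊆ Set.range m := fun a ha => by
    obtain ⟨z, hz⟩ : a ∈ Set.range ι₀ := hrange ▸ hAc ha
    have : z ∈ Set.range (ψ.fiberι s) := by
      rw [ψ.range_fiberι]
      show φ (ι₀ z) = s
      rw [hz]; exact hAs ha
    obtain ⟨w, rfl⟩ := this
    exact ⟨w, hz⟩
  have hpre : _root_.IsPreconnected (m ⁻¹' A) := by
    rw [← hm.isInducing.isPreconnected_image, Set.image_preimage_eq_inter_range, Set.inter_eq_left.2 hAm]
    exact hA
  intro a ha b hb
  obtain ⟨a', rfl⟩ := hAm ha
  obtain ⟨b', rfl⟩ := hAm hb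
  rw [hpre.subsingleton ha hb]

end Groth.Agent.Lib.SpecSub.ValDim
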